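import Mathlib.Data.List.Range
import Mathlib.Data.Int.Order.Basic
import Mathlib.Tactic.NormNum.Prime
import Mathlib.NumberTheory.Divisors

/-!
Arithmetic of the Sylow stage of a simple group of order 244823040 at the prime 23.
-/

set_option autoImplicit false

namespace Cfsg.Agent.H75.MTwentyFour

/-- The group order. -/
def order : ℕ := 244823040

/-- The consecutive signed degrees at a prime `p` are in the list `l`. -/
def pairsOK (p : ℕ) (l : List ℤ) : Bool :=
  (List.range 15647).all fun d =>
    !(order % d == 0 && 2 ≤ d) || ([(1 : ℤ), -1].all fun s =>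
      !((s * (d : ℤ) - 1) % (p : ℤ) == 0 && order % (s * (d : ℤ) + 1).natAbs == 0) ||
        l.contains (s * (d : ℤ)))

theorem pairs_twentyThree : pairsOK 23 [-22, -45] = true := by decide +kernel

theorem pairs_eleven : pairsOK 11 [-10, -21, 23, 45] = true := by decide +kernel

/-- The odd degrees congruent to `±1` or `±11` modulo 23. -/
theorem odd_degrees : ((List.range 7824).all fun i =>
    !(order % (2 * i + 1) == 0) || !([1, 22, 11, 12].contains ((2 * i + 1) % 23)) ||
      [1, 11, 35, 45, 231, 495, 10395].contains (2 * i + 1)) = true := by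
  decide +kernel

/-- The possible orders of the `23'`-part of the centraliser. -/
def coSizes : ℕ → List ℕ
  | 11 => [1, 24, 70, 576, 1680, 13824, 40320]
  | 22 => [12, 35, 288, 840, 6912, 20160]
  | _ => []

/-- The divisors of `2 ^ 10 * 3 ^ 3 * 5 * 7 * m`. -/
def divList (m : List ℕ) : List ℕ :=
  (List.range 11).flatMap fun a => (List.range 4).flatMap fun b => [1, 5].flatMap fun c =>
    [1, 7].flatMap fun d => m.map fun k => 2 ^ a * 3 ^ b * c * d * k

theorem mem_divList {k : ℕ} (h : k ∣ 967680) : k ∈ divList [1] := by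
  rw [show (967680 : ℕ) = 2 ^ 10 * 3 ^ 3 * 5 * 7 by rfl] at h
  obtain ⟨k₁, d, h₁, hd, rfl⟩ := Nat.dvd_mul.1 h
  obtain ⟨k₂, c, h₂, hc, rfl⟩ := Nat.dvd_mul.1 h₁
  obtain ⟨a', b', ha, hb, rfl⟩ := Nat.dvd_mul.1 h₂
  obtain ⟨a, ha', rfl⟩ := (Nat.dvd_prime_pow Nat.prime_two).1 ha
  obtain ⟨b, hb', rfl⟩ := (Nat.dvd_prime_pow Nat.prime_three).1 hb
  simp only [divList, List.mem_flatMap, List.mem_map, List.mem_range, List.mem_cons,
    List.not_mem_nil, or_false]
  exact ⟨a, by omega, b, by omega, c, (Nat.dvd_prime Nat.prime_five).1 hc, d,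
    (Nat.dvd_prime (by norm_num)).1 hd, 1, rfl, by rw [mul_one]⟩

/-- The possible orders of the `23'`-part of the centraliser are complete. -/
theorem check_coSize : ((divList [1]).all fun L => [11, 22].all fun e =>
    !((e * L) % 23 == 11 && 10644480 % (e * L) == 0 && decide (e * L < 10644480)) ||
      (coSizes e).contains L) = true := by
  decide +kernel

/-- The centraliser orders at which an odd degree occurs. -/
def oddCents : List ℕ := [80960, 129536, 161920, 259072, 323840, 647680, 1295360, 2331648]

/-- The degree 10395 occurs for few centralisers. -/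
theorem check_big : ((divList [1]).all fun k =>
    !((253 * k) % 2 == 0) || (List.range 21).all fun i =>
      let c : ℕ := 253 * k
      let v : ℤ := 275 + 1012 * ((i : ℤ) - 11)
      !(decide (v.natAbs < 10395) && decide (v * v < (c : ℤ)) &&
          ((order / c : ℕ) : ℤ) * v % 10395 == 0) || oddCents.contains c) = true := by
  decide +kernel

/-- The cases `(e, L, L₂)` with `L` prime to five, `L₂` the 2-part of `L`. -/
def cases : List (ℕ × ℕ × ℕ) :=
  [(11, 24, 8), (11, 576, 64), (11, 13824, 512), (22, 12, 4), (22, 288, 32), (22, 6912, 256)]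

/-- The only centralisers compatible with the count of Sylow subgroups. -/
theorem check_count : (cases.all fun eL => oddCents.all fun c =>
      ((List.range (eL.2.1 + 1)).filter fun m => eL.2.1 % m == 0 && m % eL.2.2 == 0).all fun m =>
        [11, 22].all fun j => !(eL.1 % j == 0 && c / (23 * m * j) % 23 == 1 &&
          c % (23 * m * j) == 0) || (c == 129536 && 6912 ≤ eL.2.1)) = true := by
  decide +kernel

end Cfsg.Agent.H75.MTwentyFour
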