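import Cfsg.Agent.H86.MTwentyTwo.BlockData
import Mathlib.GroupTheory.Perm.Centralizer

/-!
Elements of the normaliser of a Sylow subgroup of prime order that centralise Sylow subgroups of its
centraliser, and the order of the centraliser of an element centralising the Sylow subgroup.
-/

set_option linter.unusedSectionVars false
set_option linter.style.haveILetI false

namespace Cfsg.Agent.H75.MTwentyFour

open Subgroup H86 H86.MTwentyTwo

universe u

variable {G : Type u} [Group G]

/-- A `p`-element acting on a small `q`-group centralises it. -/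
theorem commute_of_small [Finite G] {p : ℕ} [hp : Fact p.Prime] {Q : Subgroup G} {q k : ℕ} {y : G}
    (hk : Nat.card Q = q ^ k) (hq : q.Prime) (hy : y ^ p = 1) (hN : y ∈ normalizer (Q : Set G))
    (hsmall : ∀ j, j < k → ¬ q ^ j ≡ q ^ k [MOD p]) : ∀ w ∈ Q, Commute y w := by
  classical
  haveI := Fintype.ofFinite Q
  set π : Equiv.Perm Q := MulAut.toPerm _ (Q.normalizerMonoidHom ⟨y, hN⟩) with hπ
  have hπ' : ∀ w : Q, (π w : G) = y * w * y⁻¹ := fun w => rfl
  have hp1 : π ^ p ^ 1 = 1 := by
    rw [pow_one, hπ, ← map_pow, ← map_pow]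
    have : (⟨y, hN⟩ : normalizer (Q : Set G)) ^ p = 1 := Subtype.ext hy
    rw [this, map_one, map_one]
  have hmod := Equiv.Perm.card_compl_support_modEq hp1
  set F := Q ⊓ centralizer ({y} : Set G) with hF
  have hcard : (Equiv.Perm.support π)ᶜ.card = Nat.card F := by
    rw [← Nat.card_eq_finsetCard]
    refine Nat.card_congr
      { toFun := fun w => ⟨(w.1 : G), mem_inf.2 ⟨w.1.2, mem_centralizer_singleton_iff.2 ?_⟩⟩
        invFun := fun w => ⟨⟨w.1, (mem_inf.1 w.2).1⟩, ?_⟩
        left_inv := fun w => rfl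
        right_inv := fun w => rfl }
    · have h := w.2
      rw [Finset.mem_compl, Equiv.Perm.notMem_support] at h
      have h' := congrArg Subtype.val h
      rw [hπ'] at h'
      exact (mul_inv_eq_iff_eq_mul.1 h').symm
    · rw [Finset.mem_compl, Equiv.Perm.notMem_support]
      refine Subtype.ext ?_
      rw [hπ', mul_inv_eq_iff_eq_mul]
      exact (mem_centralizer_singleton_iff.1 (mem_inf.1 w.2).2).symm
  rw [hcard, ← Nat.card_eq_fintype_card, hk] at hmod
  obtain ⟨j, hj, hjc⟩ := (Nat.dvd_prime_pow hq).1 (hk ▸ card_dvd_of_le (inf_le_left : F ≤ Q))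
  rcases hj.lt_or_eq with hlt | rfl
  · exact absurd (hjc ▸ hmod) (hsmall j hlt)
  · intro w hw
    have hFQ : F = Q := eq_of_le_of_card_ge inf_le_left (by rw [hk, hjc])
    exact (mem_centralizer_singleton_iff.1 (mem_inf.1 (hFQ.symm ▸ hw : w ∈ F)).2).symm

variable [Fintype G] {p : ℕ} [hp : Fact p.Prime] (D : SmallExc.PBlk G p)

theorem cent_le_normalizer : Cent D ≤ normalizer (D.P : Set G) := centralizer_le_normalizer _

/-- An element of prime order `r` of the normaliser of `P` normalising a Sylow subgroup of the centraliser. -/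
theorem exists_normalising {r : ℕ} [hr : Fact r.Prime] (hre : r ∣ D.e)
    (hrC : ¬ r ∣ Nat.card (Cent D)) (q : ℕ) [hq : Fact q.Prime] :
    ∃ (Q : Subgroup G) (y : G), Q ≤ Cent D ∧
      Nat.card Q = q ^ (Nat.card (Cent D)).factorization q ∧
      y ∈ normalizer (D.P : Set G) ∧ y ∉ Cent D ∧ orderOf y = r ∧ y ∈ normalizer (Q : Set G) := by
  set N := normalizer (D.P : Set G) with hN
  set C' := (Cent D).subgroupOf N with hC'
  haveI : C'.Normal := normal_subgroupOf_centralizer_normalizer _
  obtain ⟨S⟩ := (inferInstance : Nonempty (Sylow q C'))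
  set S' := (S : Subgroup C').map C'.subtype with hS'
  set M := normalizer (S' : Set N) with hM
  have htop : M ⊔ C' = ⊤ := Sylow.normalizer_sup_eq_top S
  set f := (QuotientGroup.mk' C').comp M.subtype with hf
  have hsurj : Function.Surjective f := by
    rw [← MonoidHom.range_eq_top, hf, MonoidHom.range_comp, range_subtype]
    have h := congrArg (Subgroup.map (QuotientGroup.mk' C')) htop
    rw [Subgroup.map_sup, QuotientGroup.map_mk'_self, sup_bot_eq,
      map_top_of_surjective _ (QuotientGroup.mk'_surjective C')] at h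
    exact h
  have hdvd : r ∣ Nat.card M := hre.trans (by
    have h := card_dvd_of_surjective f hsurj
    rwa [← Subgroup.index_eq_card] at h)
  obtain ⟨y, hy⟩ := exists_prime_orderOf_dvd_card' (G := M) r hdvd
  have hyo : orderOf ((y : N) : G) = r := by rw [Subgroup.orderOf_coe, Subgroup.orderOf_coe, hy]
  refine ⟨S'.map N.subtype, (y : N), ?_, ?_, (y : N).2, ?_, hyo, ?_⟩
  · rintro w ⟨w', hw', rfl⟩
    obtain ⟨w'', -, rfl⟩ := hw'
    exact mem_subgroupOf.1 w''.2
  · rw [card_map_of_injective N.subtype_injective, card_map_of_injective C'.subtype_injective,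
      S.card_eq_multiplicity, Nat.card_congr (subgroupOfEquivOfLe (cent_le_normalizer D)).toEquiv]
  · intro hc
    apply hrC
    rw [← hyo]
    exact orderOf_dvd_natCard (Cent D) hc
  · refine mem_normalizer_iff.2 fun w => ⟨?_, ?_⟩
    · rintro ⟨w', hw', rfl⟩
      exact ⟨(y : N) * w' * (y : N)⁻¹, (mem_normalizer_iff.1 y.2 w').1 hw', rfl⟩
    · rintro ⟨w', hw', hw''⟩
      refine ⟨(y : N)⁻¹ * w' * (y : N), ?_, ?_⟩
      · have := (mem_normalizer_iff.1 (inv_mem y.2) w').1 hw'
        rwa [inv_inv] at this
      · simp only [Subgroup.coe_subtype, Subgroup.coe_mul, Subgroup.coe_inv] at hw'' ⊢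
        rw [hw'']; group

/-- The number of Sylow subgroups of the centraliser of an element centralising `P`. -/
theorem cent_count {z : G} (hz : z ∈ Cent D) {y : G} (hyN : y ∈ normalizer (D.P : Set G))
    (hyz : Commute y z) {r : ℕ} [hr : Fact r.Prime] (hy : orderOf y = r)
    (hrC : ¬ r ∣ Nat.card (Cent D)) {Q : Subgroup G} (hQC : Q ≤ Cent D)
    (hQz : ∀ w ∈ Q, Commute w z) :
    ∃ n m j : ℕ, Nat.card (centralizer ({z} : Set G)) = n * (p * m * j) ∧ n % p = 1 ∧ r ∣ j ∧
      j ∣ D.e ∧ m ∣ coSize D ∧ Nat.card Q ∣ p * m := by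
  set N := normalizer (D.P : Set G) with hN
  set H := centralizer ({z} : Set G) with hH
  set K := H ⊓ Cent D with hK
  set M := H ⊓ N with hM
  have hPH : (D.P : Subgroup G) ≤ H := fun x hx =>
    mem_centralizer_singleton_iff.2 (commute_mem D hx hz).eq
  have hPK : (D.P : Subgroup G) ≤ K := le_inf hPH (le_cent D)
  have hKM : K ≤ M := inf_le_inf_left H (cent_le_normalizer D)
  obtain ⟨m, hm⟩ : p ∣ Nat.card K := by
    have h := card_dvd_of_le hPK
    rwa [show Nat.card (D.P : Subgroup G) = p from D.card_P] at h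
  set j := K.relIndex M with hj
  have hMcard : Nat.card M = p * m * j := by
    have h := (K.subgroupOf M).card_mul_index
    rw [Nat.card_congr (subgroupOfEquivOfLe hKM).toEquiv, hm] at h
    exact h.symm
  have hmL : m ∣ coSize D := by
    have h : Nat.card K ∣ Nat.card (Cent D) := card_dvd_of_le inf_le_right
    rw [hm, card_cent D] at h
    exact Nat.dvd_of_mul_dvd_mul_left hp.out.pos h
  have hje : j ∣ D.e := by
    haveI : ((Cent D).subgroupOf N).Normal := normal_subgroupOf_centralizer_normalizer _
    have h := relIndex_dvd_index_of_normal ((Cent D).subgroupOf N) (M.subgroupOf N)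
    rw [relIndex_subgroupOf inf_le_right] at h
    have hKe : K = Cent D ⊓ M := by
      rw [hK, hM]
      exact le_antisymm (le_inf inf_le_right (inf_le_inf_left H (cent_le_normalizer D)))
        (le_inf (inf_le_right.trans inf_le_left) inf_le_left)
    rw [hj, hKe, inf_relIndex_right]
    exact h
  have hrj : r ∣ j := by
    have hyM : y ∈ M := mem_inf.2 ⟨mem_centralizer_singleton_iff.2 hyz.eq, hyN⟩
    have h1 : r ∣ p * m * j := hMcard ▸ hy ▸ orderOf_dvd_natCard M hyM
    refine ((Nat.Prime.dvd_mul hr.out).1 h1).resolve_left fun h => hrC (h.trans ?_)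
    rw [card_cent D]
    exact mul_dvd_mul_left p hmL
  have hsyl := (D.P.subtype hPH).card_eq_index_normalizer
  have hnorm : normalizer ((D.P.subtype hPH : Sylow p H) : Set H) = M.subgroupOf H := by
    ext ⟨g, hg⟩
    simp only [mem_subgroupOf, hM, mem_inf, hg, true_and, hN]
    constructor
    · intro h w
      constructor
      · intro hw
        exact (h ⟨w, hPH hw⟩).1 hw
      · intro hw
        have hwH : w ∈ H := by
          have := mul_mem (mul_mem (inv_mem hg) (hPH hw)) hg
          rwa [show g⁻¹ * (g * w * g⁻¹) * g = w by group] at this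
        exact (h ⟨w, hwH⟩).2 hw
    · intro h w
      exact h (w : G)
  have hmul := (normalizer ((D.P.subtype hPH : Sylow p H) : Set H)).card_mul_index
  rw [← hsyl, hnorm, Nat.card_congr (subgroupOfEquivOfLe inf_le_left).toEquiv, hMcard] at hmul
  refine ⟨Nat.card (Sylow p H), m, j, ?_, ?_, hrj, hje, hmL, ?_⟩
  · rw [← hmul]; ring
  · have h : Nat.card (Sylow p H) % p = 1 % p := card_sylow_modEq_one p H
    rwa [Nat.mod_eq_of_lt hp.out.one_lt] at h
  · rw [← hm]
    exact card_dvd_of_le (le_inf (fun w hw => mem_centralizer_singleton_iff.2 (hQz w hw).eq) hQC)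

end Cfsg.Agent.H75.MTwentyFour
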