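import Cfsg.Agent.H75.MTwentyFour.Arith
import Cfsg.Agent.H75.MTwentyFour.Fix
import Cfsg.Agent.H86.MTwentyTwo.BlockData
import Cfsg.Agent.H36.Basic
import Cfsg.Agent.H83.ClassConst
import Cfsg.Prelude.Def_Sporadic

/-!
Basic facts about a simple group of order 244823040 and its Sylow subgroups of prime order.
-/

set_option linter.unusedSectionVars false
set_option linter.style.haveILetI false

open scoped ComplexConjugate Classical

namespace Cfsg.Agent.H75.MTwentyFour

open CharBasic Subgroup BlockBasic H86 H86.MTwentyTwo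

universe u

variable {G : Type u} [Group G]

theorem finite_of_isM24 (hG : IsM24 G) : Finite G :=
  Nat.finite_of_card_ne_zero (by rw [hG.2]; norm_num)

theorem not_comm_of_isM24 (hG : IsM24 G) : ¬ IsMulCommutative G := by
  haveI := hG.1
  haveI := finite_of_isM24 hG
  exact H36.not_isMulCommutative_of_dvd Nat.prime_two Nat.prime_three (by norm_num)
    (by rw [hG.2]; norm_num) (by rw [hG.2]; norm_num)

theorem exists_noncomm (hG : IsM24 G) : ∃ a b : G, a * b ≠ b * a := by
  by_contra! h
  exact not_comm_of_isM24 hG ⟨⟨h⟩⟩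

theorem card_sylow_of (hG : IsM24 G) {p : ℕ} [hp : Fact p.Prime] (hdvd : p ∣ order)
    (hsq : ¬ p ^ 2 ∣ order) (P : Sylow p G) : Nat.card (P : Subgroup G) = p := by
  haveI := finite_of_isM24 hG
  have h0 : order ≠ 0 := by unfold order; norm_num
  rw [Sylow.card_eq_multiplicity, show Nat.card G = order from hG.2]
  have : order.factorization p = 1 := by
    refine le_antisymm ?_ ((hp.out.dvd_iff_one_le_factorization h0).1 hdvd)
    by_contra h
    exact hsq ((hp.out.pow_dvd_iff_le_factorization h0).2 (by omega))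
  rw [this, pow_one]

variable [Fintype G] {p : ℕ} [hp : Fact p.Prime] (D : SmallExc.PBlk G p)

/-- The numbers of Sylow subgroups, orbits and the centraliser. -/
theorem sylow_data (hG : IsM24 G) (hpp : p ≠ order) :
    Nat.card (Sylow p G) * D.e * coSize D * p = order ∧ Nat.card (Sylow p G) % p = 1 ∧
      Nat.card (Sylow p G) ≠ 1 ∧ D.e ≠ 1 := by
  haveI := hG.1
  haveI := finite_of_isM24 hG
  have hN : Nat.card G = order := hG.2
  refine ⟨?_, ?_, ?_, ?_⟩
  · have h := e_mul_g_mul D
    rw [hN] at h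
    rw [← h]
    show _ = D.e * Nat.card (Sylow p G) * (p * coSize D)
    ring
  · have h : Nat.card (Sylow p G) % p = 1 % p := card_sylow_modEq_one p G
    rwa [Nat.mod_eq_of_lt hp.out.one_lt] at h
  · intro h1
    have hnorm : (D.P : Subgroup G).Normal := by
      rw [← normalizer_eq_top_iff, ← index_eq_one]
      exact (Sylow.card_eq_index_normalizer D.P).symm.trans h1
    have hP : Nat.card (D.P : Subgroup G) = p := D.card_P
    rcases hnorm.eq_bot_or_eq_top with e | e
    · rw [e, card_bot] at hP; exact hp.out.ne_one hP.symm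
    · rw [e, card_top, hN] at hP; exact hpp hP.symm
  · intro he
    have h := length_signedX D
    rw [he] at h
    have hL : signedX D = [] := List.length_eq_zero_iff.1 (by omega)
    obtain ⟨θ, hθ⟩ := D.Y_nonempty
    have hs := sum_signedX D hθ
    rw [hL, List.sum_nil, add_zero] at hs
    have h2 := two_le_degree (not_comm_of_isM24 hG) (Y_ne_triv D hθ)
    rcases D.hε with e | e <;> rw [e] at hs <;> omega

/-- An integral value whose multiple by the class size over the degree is integral. -/
theorem dvd_index_mul (χ : IrrCharacter G) {z : G} {v : ℤ} (hv : (χ : G → ℂ) z = v) :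
    (charDegree (χ : G → ℂ) : ℤ) ∣ ((centralizer ({z} : Set G)).index : ℤ) * v := by
  have h := H83.omega_class_isIntegral χ.2 z
  rw [hv, apply_one_eq_charDegree] at h
  have hq : ((centralizer ({z} : Set G)).index : ℂ) * (v : ℂ) / (charDegree (χ : G → ℂ) : ℂ) =
      algebraMap ℚ ℂ (((centralizer ({z} : Set G)).index : ℚ) * (v : ℚ) /
        (charDegree (χ : G → ℂ) : ℚ)) := by simp
  rw [hq, isIntegral_algebraMap_iff (algebraMap ℚ ℂ).injective] at h
  obtain ⟨k, hk⟩ := IsIntegrallyClosed.isIntegral_iff.1 h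
  have hd : (charDegree (χ : G → ℂ) : ℚ) ≠ 0 := Nat.cast_ne_zero.2 (charDegree_pos χ).ne'
  rw [eq_div_iff hd] at hk
  refine ⟨k, ?_⟩
  have : ((((centralizer ({z} : Set G)).index : ℤ) * v : ℤ) : ℚ) =
      (((charDegree (χ : G → ℂ) : ℤ) * k : ℤ) : ℚ) := by
    push_cast
    rw [← hk]
    simp [mul_comm]
  exact_mod_cast this

/-- The sum of the squares of the values over a set of characters. -/
theorem sum_sq_le_centralizer {z : G} {v : IrrCharacter G → ℤ} (hv : ∀ χ : IrrCharacter G, (χ : G → ℂ) z = v χ)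
    (S : Finset (IrrCharacter G)) :
    ∑ χ ∈ S, v χ ^ 2 ≤ (Nat.card (centralizer ({z} : Set G)) : ℤ) := by
  refine le_trans (Finset.sum_le_sum_of_subset_of_nonneg (Finset.subset_univ _)
    fun χ _ _ => sq_nonneg _) (le_of_eq ?_)
  have h := second_orthogonality_self (G := G) z
  simp only [hv, map_intCast, ← sq] at h
  exact_mod_cast h

/-- A degree is at most 15646. -/
theorem degree_lt (hG : IsM24 G) (χ : IrrCharacter G) :
    charDegree (χ : G → ℂ) < 15647 ∧ charDegree (χ : G → ℂ) ∣ order := by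
  have hN : Nat.card G = order := hG.2
  constructor
  · have h := sum_sq_degree (G := G)
    simp only [apply_one_eq_charDegree, hN] at h
    have h' : ∑ χ : IrrCharacter G, (charDegree (χ : G → ℂ)) ^ 2 = order := by exact_mod_cast h
    have hle : charDegree (χ : G → ℂ) ^ 2 ≤ order := h' ▸
      Finset.single_le_sum (f := fun χ : IrrCharacter G => charDegree (χ : G → ℂ) ^ 2)
        (fun _ _ => Nat.zero_le _) (Finset.mem_univ χ)
    by_contra hge
    have := Nat.pow_le_pow_left (Nat.le_of_not_lt hge) 2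
    unfold order at hle
    omega
  · exact hN ▸ charDegree_dvd χ

/-- Two orbits: the nontrivial character and the exceptional degree. -/
theorem two_orbits (hG : IsM24 G) (he : D.e = 2) {l : List ℤ} (hl : pairsOK p l = true) :
    ∃ χ ∈ D.X, D.X = {trivialIrr, χ} ∧ χ ≠ trivialIrr ∧
      D.εX χ * (charDegree (χ : G → ℂ) : ℤ) ∈ l ∧ ∀ θ ∈ D.Y,
        D.ε * (charDegree (θ : G → ℂ) : ℤ) = 1 + D.εX χ * (charDegree (χ : G → ℂ) : ℤ) := by
  haveI := hG.1
  have hna := not_comm_of_isM24 hG
  have hcard : (D.X.erase trivialIrr).card = 1 := by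
    rw [Finset.card_erase_of_mem D.trivX, D.cardX]
    show D.e - 1 = 1
    omega
  obtain ⟨χ, hχ⟩ := Finset.card_eq_one.1 hcard
  obtain ⟨hχ1, hχX⟩ := Finset.mem_erase.1 (hχ.symm ▸ Finset.mem_singleton_self χ : χ ∈ D.X.erase trivialIrr)
  have hsum : ∀ θ ∈ D.Y,
      D.ε * (charDegree (θ : G → ℂ) : ℤ) = 1 + D.εX χ * (charDegree (χ : G → ℂ) : ℤ) := by
    intro θ hθ
    rw [← sum_signedX D hθ, signedX, Finset.sum_map_toList, hχ, Finset.sum_singleton]
  refine ⟨χ, hχX, ?_, hχ1, ?_, hsum⟩
  · rw [← Finset.insert_erase D.trivX, hχ]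
  · obtain ⟨θ, hθ⟩ := D.Y_nonempty
    set d := charDegree (χ : G → ℂ)
    obtain ⟨hd1, hd2⟩ := degree_lt hG χ
    have h := List.all_eq_true.1 hl d (List.mem_range.2 hd1)
    have hd3 : 2 ≤ d := two_le_degree hna hχ1
    have h0 : (order % d == 0) = true := beq_iff_eq.2 (Nat.mod_eq_zero_of_dvd hd2)
    rw [h0, decide_eq_true hd3, Bool.and_self, Bool.not_true, Bool.false_or, List.all_eq_true] at h
    have h' := h (D.εX χ) (by rcases D.sign χ hχX with e | e <;> simp [e])
    have hT : order % (D.εX χ * (d : ℤ) + 1).natAbs = 0 := by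
      rw [add_comm, ← hsum θ hθ, natAbs_sign_mul D.hε]
      exact Nat.mod_eq_zero_of_dvd (degree_lt hG θ).2
    have h1 : ((D.εX χ * (d : ℤ) - 1) % (p : ℤ) == 0) = true :=
      beq_iff_eq.2 (Int.emod_eq_zero_of_dvd (X_degree_mod D hχX))
    rw [h1, beq_iff_eq.2 hT, Bool.and_self, Bool.not_true, Bool.false_or] at h'
    exact List.contains_iff_mem.1 h'

end Cfsg.Agent.H75.MTwentyFour
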