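import Cfsg.Agent.H75.MTwentyFour.Arith
import Mathlib.Data.List.Perm.Basic
import Mathlib.Tactic.Ring

/-!
Searches over multisets of signed degrees for the Sylow stage at eleven.
-/

set_option autoImplicit false

namespace Cfsg.Agent.H75.MTwentyFour

/-- The multisets of size `k` from a list. -/
def msetsAux {α : Type} : List α → ℕ → List (List α)
  | [], 0 => [[]]
  | [], _ + 1 => []
  | a :: l, k => (List.range (k + 1)).flatMap fun i =>
      (msetsAux l (k - i)).map (List.replicate i a ++ ·)

/-- The multisets of size `k` from a list. -/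
def msets {α : Type} (k : ℕ) (l : List α) : List (List α) := msetsAux l k

theorem msets_complete {α : Type} [DecidableEq α] (k : ℕ) (X L : List α) (hk : L.length = k)
    (h : ∀ a ∈ L, a ∈ X) : ∃ L' ∈ msets k X, L'.Perm L := by
  induction X generalizing k L with
  | nil =>
    cases L with
    | nil => subst hk; exact ⟨[], by simp [msets, msetsAux], List.Perm.refl _⟩
    | cons b L => exact absurd (h b (by simp)) (by simp)
  | cons a X ih =>
    have hsplit : (L.filter (fun b => decide (b = a)) ++ L.filter (fun b => !decide (b = a))).Perm L :=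
      List.filter_append_perm _ L
    have hrep : L.filter (fun b => decide (b = a)) =
        List.replicate (L.filter (fun b => decide (b = a))).length a :=
      List.eq_replicate_of_mem fun b hb => of_decide_eq_true (List.mem_filter.1 hb).2
    set i := (L.filter (fun b => decide (b = a))).length with hi
    have hlen := hsplit.length_eq
    rw [List.length_append, ← hi, hk] at hlen
    obtain ⟨L', h', hp⟩ := ih (k - i) (L.filter fun b => !decide (b = a)) (by omega) fun b hb => by
      obtain ⟨hb1, hb2⟩ := List.mem_filter.1 hb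
      exact (List.mem_cons.1 (h b hb1)).resolve_left (by simpa using hb2)
    refine ⟨List.replicate i a ++ L', List.mem_flatMap.2 ⟨i, List.mem_range.2 (by omega),
      List.mem_map.2 ⟨L', h', rfl⟩⟩, ?_⟩
    exact ((hp.append_left _).trans (by rw [← hrep])).trans hsplit

/-- The residues of degrees modulo 23. -/
def classes : List ℕ := [0, 1, 11, 12, 22]

/-- Degrees dividing `q` with an allowed residue modulo 23. -/
def degOK (q d : ℕ) : Bool := q % d == 0 && classes.contains (d % 23)

/-- The excluded signed degrees. -/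
def smallB (p : ℕ) (F : ℤ) : Bool :=
  F == 1 - (p : ℤ) || F == 1 - 2 * (p : ℤ) || F == (p : ℤ) + 1

/-- The list `X` contains all signed non-exceptional degrees. -/
def degList (p q : ℕ) (X : List ℤ) : Bool :=
  (List.range 15647).all fun d => !(degOK q d && 2 ≤ d) || [(1 : ℤ), -1].all fun s =>
    !((s * (d : ℤ) - 1) % (p : ℤ) == 0) || smallB p (s * (d : ℤ)) || X.contains (s * (d : ℤ))

/-- The test of the exceptional degree. -/
def excDeg (p q e : ℕ) (T : ℤ) : Bool :=
  2 ≤ T.natAbs && degOK q T.natAbs && (T - (e : ℤ)) % (p : ℤ) == 0 &&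
    !smallB p (-(((p - 1) / e : ℕ) : ℤ) * T)

theorem excDeg_eq {p q e : ℕ} {T : ℤ} (h2 : 2 ≤ T.natAbs) (hd : T.natAbs ∣ q)
    (h23 : T.natAbs % 23 ∈ classes) (hm : (p : ℤ) ∣ T - e)
    (hs : smallB p (-(((p - 1) / e : ℕ) : ℤ) * T) = false) : excDeg p q e T = true := by
  unfold excDeg degOK
  rw [decide_eq_true h2, beq_iff_eq.2 (Nat.mod_eq_zero_of_dvd hd), List.contains_iff_mem.2 h23,
    beq_iff_eq.2 (Int.emod_eq_zero_of_dvd hm), hs]
  rfl

theorem mem_degList {p q : ℕ} {X : List ℤ} (h : degList p q X = true) {d : ℕ} {s : ℤ}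
    (hs : s = 1 ∨ s = -1) (hd : d < 15647) (h2 : 2 ≤ d) (hq : d ∣ q) (h23 : d % 23 ∈ classes)
    (hm : (p : ℤ) ∣ s * (d : ℤ) - 1) (hsm : smallB p (s * (d : ℤ)) = false) : s * (d : ℤ) ∈ X := by
  have h1 := List.all_eq_true.1 h d (List.mem_range.2 hd)
  unfold degOK at h1
  rw [beq_iff_eq.2 (Nat.mod_eq_zero_of_dvd hq), List.contains_iff_mem.2 h23, decide_eq_true h2,
    Bool.and_self, Bool.and_self, Bool.not_true, Bool.false_or, List.all_eq_true] at h1
  have h3 := h1 s (by rcases hs with e | e <;> simp [e])
  rw [beq_iff_eq.2 (Int.emod_eq_zero_of_dvd hm), hsm, Bool.not_true, Bool.false_or,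
    Bool.false_or] at h3
  exact List.contains_iff_mem.1 h3

end Cfsg.Agent.H75.MTwentyFour
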