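import Cfsg.Agent.H75.MTwentyFour.Search

/-!
The degree equation at seven when an element of order eleven centralises the Sylow subgroup.
-/

set_option autoImplicit false

namespace Cfsg.Agent.H75.MTwentyFour

/-- Signed degrees at seven with `11 ∣ L`. -/
def seven11 : List ℤ := [-69, 92, -160, -230, 288, 414, 540, -552, 736, -1035, 1380, -1840, -2484,
  3312, -4416, 5888, 6210, -8280, 11040, -13824, -14720]

/-- Signed degrees at seven with `66 ∣ L`. -/
def seven66 : List ℤ := [-69, 92, -160, -230, 288, 414, -552, 736, -1035, 1380, -1840, 3312, -4416,
  5888, -8280, 11040, -14720]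

/-- Signed degrees at seven with `220 ∣ L`. -/
def seven220 : List ℤ := [-69, 92, 288, 414, -552, 736, -2484, 3312, -4416, 5888]

theorem seven11_list : degList 7 (34974720 / 11) seven11 = true := by decide +kernel
theorem seven66_list : degList 7 (34974720 / 66) seven66 = true := by decide +kernel
theorem seven220_list : degList 7 (34974720 / 220) seven220 = true := by decide +kernel

/-- A solution of the degree equation at seven. -/
def sevenSol (q e : ℕ) (L : List ℤ) : Bool :=
  let T : ℤ := 1 + L.sum
  excDeg 7 q e T &&
    decide (1 + (L.map fun F => F * F).sum + ((6 / e : ℕ) : ℤ) * (T * T) ≤ (order : ℤ))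

theorem seven_two : ((msets 1 seven11).all fun L => !sevenSol (34974720 / 11) 2 L) = true := by
  decide +kernel

theorem seven_three : ((msets 2 seven11).all fun L => !sevenSol (34974720 / 11) 3 L ||
    L == [-69, 92]) = true := by
  decide +kernel

theorem seven_six66 : ((msets 5 seven66).all fun L => !sevenSol (34974720 / 66) 6 L) = true := by
  decide +kernel

theorem seven_six220 : ((msets 5 seven220).all fun L => !sevenSol (34974720 / 220) 6 L) = true := by
  decide +kernel

/-- Six orbits force `66` or `220` to divide the order of the `7'`-part of the centraliser. -/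
theorem seven_coSize : ((divList [1]).all fun k =>
    !(k % 7 != 0 && 5829120 % (11 * k) == 0 && 5829120 / (11 * k) % 7 == 1 &&
      decide (11 * k < 5829120)) || (11 * k) % 66 == 0 || (11 * k) % 220 == 0) = true := by
  decide +kernel

end Cfsg.Agent.H75.MTwentyFour
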