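import Cfsg.Agent.H75.MTwentyFour.Values
import Cfsg.Agent.H75.MTwentyFour.SevenCheck

/-!
No element of order seven commutes with an element of order eleven in a simple group of order 244823040.
-/

set_option linter.unusedSectionVars false
set_option linter.style.haveILetI false

namespace Cfsg.Agent.H75.MTwentyFour

theorem free_powers : ∀ k : Fin 23, (k : ℕ) ^ 11 % 23 = 1 → (k : ℕ) ≠ 1 → ∀ i j : Fin 11, i ≠ j →
    (k : ℕ) ^ (i : ℕ) % 23 ≠ (k : ℕ) ^ (j : ℕ) % 23 := by decide +kernel

open scoped ComplexConjugate Classical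

open CharBasic Subgroup BlockBasic H86 H86.MTwentyTwo

universe u

local instance : Fact (Nat.Prime 23) := ⟨by norm_num⟩
local instance : Fact (Nat.Prime 11) := ⟨by norm_num⟩
local instance : Fact (Nat.Prime 7) := ⟨by norm_num⟩

variable {G : Type u} [Group G] [Fintype G]

/-- The centraliser of an element of order 23. -/
theorem commute_twentyThree (hG : IsM24 G) {x w : G} (hx : orderOf x = 23) (h : Commute x w) :
    w ∈ zpowers x := by
  haveI := hG.1
  obtain ⟨P, hP⟩ := (IsPGroup.of_card (p := 23) (n := 1)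
    (by rw [Nat.card_zpowers, hx, pow_one]) : IsPGroup 23 (zpowers x)).exists_le_sylow
  obtain ⟨E, hE⟩ := SmallExc.exists_pblk P (card_sylow_of hG (by decide) (by decide) P)
  subst hE
  have hxP : x ∈ (E.P : Subgroup G) := hP (mem_zpowers x)
  have hx1 : x ≠ 1 := fun e => by rw [e, orderOf_one] at hx; norm_num at hx
  have hw : w ∈ Cent E := by
    rw [← centralizer_mem E hxP hx1]
    exact mem_centralizer_singleton_iff.2 h.symm.eq
  have hPx : zpowers x = (E.P : Subgroup G) := eq_of_le_of_card_ge hP (by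
    rw [Nat.card_zpowers, hx, show Nat.card (E.P : Subgroup G) = 23 from E.card_P])
  rw [hPx, ← (twentyThree hG E.P).1]
  exact hw

/-- An element of order eleven acts fixed-point-freely on some subgroup of order 23. -/
theorem exists_free (hG : IsM24 G) {y : G} (hy : orderOf y = 11) :
    ∃ (x : G) (k : ℕ), orderOf x = 23 ∧ y * x * y⁻¹ = x ^ k ∧
      ∀ i j : ℕ, i < 11 → j < 11 → i ≠ j → ¬ k ^ i ≡ k ^ j [MOD 23] := by
  haveI := hG.1
  obtain ⟨P₀⟩ := (inferInstance : Nonempty (Sylow 23 G))
  obtain ⟨hC, he⟩ := twentyThree hG P₀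
  set N := normalizer (P₀ : Set G) with hN
  obtain ⟨y₀, hy₀⟩ := exists_prime_orderOf_dvd_card' (G := N) 11 (by
    refine dvd_trans ?_ (Subgroup.index_dvd_card
      ((centralizer ((P₀ : Subgroup G) : Set G)).subgroupOf N))
    rw [show ((centralizer ((P₀ : Subgroup G) : Set G)).subgroupOf N).index = 11 from he])
  have hy₀' : orderOf (y₀ : G) = 11 := (Subgroup.orderOf_coe y₀).trans hy₀
  obtain ⟨Q, hQ⟩ := (IsPGroup.of_card (p := 11) (n := 1)
    (by rw [Nat.card_zpowers, hy, pow_one]) : IsPGroup 11 (zpowers y)).exists_le_sylow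
  obtain ⟨Q₀, hQ₀⟩ := (IsPGroup.of_card (p := 11) (n := 1)
    (by rw [Nat.card_zpowers, hy₀', pow_one]) : IsPGroup 11 (zpowers (y₀ : G))).exists_le_sylow
  have hQ₀N : (Q₀ : Subgroup G) ≤ N := by
    have : zpowers (y₀ : G) = (Q₀ : Subgroup G) := eq_of_le_of_card_ge hQ₀ (by
      rw [Nat.card_zpowers, hy₀', card_sylow_of hG (by decide) (by decide) Q₀])
    rw [← this]
    exact zpowers_le.2 y₀.2
  obtain ⟨g, hg⟩ := MulAction.exists_smul_eq G Q₀ Q
  have hyg : g⁻¹ * y * g ∈ N := by
    apply hQ₀N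
    have hyQ : y ∈ (Q : Subgroup G) := hQ (mem_zpowers y)
    rw [← hg, Sylow.coe_subgroup_smul, Subgroup.mem_pointwise_smul_iff_inv_smul_mem] at hyQ
    simpa [MulAut.smul_def, MulAut.conj_apply, mul_assoc] using hyQ
  obtain ⟨x₀, hx₀⟩ := exists_prime_orderOf_dvd_card' (G := (P₀ : Subgroup G)) 23
    (by rw [card_sylow_of hG (by decide) (by decide) P₀])
  have hx₀' : orderOf (x₀ : G) = 23 := (Subgroup.orderOf_coe x₀).trans hx₀
  set x := g * (x₀ : G) * g⁻¹ with hx
  have hxo : orderOf x = 23 := by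
    have := orderOf_injective (MulAut.conj g).toMonoidHom (MulEquiv.injective _) (x₀ : G)
    rw [hx]
    exact this.trans hx₀'
  have hyx : y * x * y⁻¹ ∈ zpowers x := by
    have h1 : g⁻¹ * y * g * (x₀ : G) * (g⁻¹ * y * g)⁻¹ ∈ (P₀ : Subgroup G) :=
      (mem_normalizer_iff.1 hyg x₀).1 x₀.2
    have hPx : zpowers (x₀ : G) = (P₀ : Subgroup G) := eq_of_le_of_card_ge (zpowers_le.2 x₀.2) (by
      rw [Nat.card_zpowers, hx₀', card_sylow_of hG (by decide) (by decide) P₀])
    obtain ⟨i, hi⟩ := (SetLike.ext_iff.1 hPx _).2 h1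
    refine ⟨i, ?_⟩
    simp only at hi ⊢
    rw [hx, conj_zpow, hi]
    group
  obtain ⟨k, hk⟩ := (mem_powers_iff_mem_zpowers (x := x)).2 hyx
  simp only at hk
  refine ⟨x, k, hxo, hk.symm, fun i j hi hj hij hmod => ?_⟩
  have hk1 : k % 23 ≠ 1 := fun h1 => by
    have hx' : x ^ k = x := by rw [← pow_mod_orderOf, hxo, h1, pow_one]
    have hc : Commute x y := by
      rw [hx'] at hk
      exact (mul_inv_eq_iff_eq_mul.1 hk.symm).symm
    have := commute_twentyThree hG hxo hc
    have hdvd := orderOf_dvd_of_mem_zpowers this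
    rw [hy, hxo] at hdvd
    norm_num at hdvd
  have hk11 : (k % 23) ^ 11 % 23 = 1 := by
    have hn : ∀ n : ℕ, y ^ n * x * (y ^ n)⁻¹ = x ^ (k ^ n) := by
      intro n
      induction n with
      | zero => simp
      | succ n ih =>
        rw [pow_succ' y, mul_inv_rev,
          show y * y ^ n * x * ((y ^ n)⁻¹ * y⁻¹) = y * (y ^ n * x * (y ^ n)⁻¹) * y⁻¹ by group, ih,
          ← conj_pow, ← hk, ← pow_mul, pow_succ']
    have h11 := hn 11
    rw [← hy, pow_orderOf_eq_one, one_mul, inv_one, mul_one, hy] at h11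
    have h2 : x ^ 1 = x ^ (k ^ 11) := by rw [pow_one]; exact h11
    have h3 := pow_eq_pow_iff_modEq.1 h2
    rw [hxo] at h3
    rw [← Nat.pow_mod]
    exact h3.symm
  refine free_powers ⟨k % 23, Nat.mod_lt _ (by norm_num)⟩ hk11 hk1 ⟨i, hi⟩ ⟨j, hj⟩
    (fun h => hij (congrArg Fin.val h)) ?_
  show (k % 23) ^ i % 23 = (k % 23) ^ j % 23
  rw [← Nat.pow_mod, ← Nat.pow_mod]
  exact hmod

/-- A nontrivial character congruent to three modulo seven at the nontrivial powers of `y`. -/
theorem no_deg24 (hG : IsM24 G) {M : Ideal AlgInt} (hM : IsPModular 7 M) {θ : IrrCharacter G}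
    (hd : charDegree (θ : G → ℂ) = 24) {y : G} (hy : orderOf y = 11)
    (hval : ∀ i : ℕ, ¬ 11 ∣ i → MemLocalIdeal M (((2 : ℤ) : ℂ) * (θ : G → ℂ) (y ^ i) + 1)) :
    False := by
  haveI := hG.1
  obtain ⟨x, k, hxo, hk, hfree⟩ := exists_free hG hy
  obtain ⟨ζ, hζ⟩ : ∃ ζ : ℂ, IsPrimitiveRoot ζ 11 :=
    ⟨_, Complex.isPrimitiveRoot_exp 11 (by norm_num)⟩
  obtain ⟨n, ν, hν, htr, hn, -⟩ := exists_eigen θ (by omega) (by norm_num : Nat.Prime 23) hxo hy hk
    hfree (μ := 1) (one_pow _)
  have hmult : ∀ μ : ℂ, μ ^ 11 = 1 → μ ≠ 1 →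
      7 ∣ (Finset.univ.filter fun i => ν i = μ).card := by
    intro μ hμ hμ1
    have hμ0 : μ ≠ 0 := by rintro rfl; norm_num at hμ
    have hroot : ∀ w : ℂ, w ^ 11 = 1 →
        ∑ j ∈ Finset.range 11, w ^ j = if w = 1 then (11 : ℂ) else 0 := by
      intro w hw
      split_ifs with h
      · simp [h]
      · have h3 := geom_sum_mul w 11
        rw [hw, sub_self, mul_eq_zero] at h3
        exact h3.resolve_right (sub_ne_zero.2 h)
    have hcount : ∑ j ∈ Finset.range 11, μ⁻¹ ^ j * (θ : G → ℂ) (y ^ j) =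
        11 * ((Finset.univ.filter fun i => ν i = μ).card : ℂ) := by
      simp only [htr, Finset.mul_sum, ← mul_pow]
      rw [Finset.sum_comm, Finset.sum_congr rfl fun i _ =>
        hroot (μ⁻¹ * ν i) (by rw [mul_pow, inv_pow, hμ, hν i, inv_one, mul_one]),
        ← Finset.sum_filter, Finset.sum_const, nsmul_eq_mul]
      simp only [inv_mul_eq_one₀ hμ0, eq_comm (a := μ)]
      ring
    have hsum := hroot μ⁻¹ (by rw [inv_pow, hμ, inv_one])
    rw [if_neg (fun h => hμ1 (inv_eq_one.1 h)), ← Finset.add_sum_erase _ _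
      (Finset.mem_range.2 (by norm_num : 0 < 11)), pow_zero] at hsum
    rw [← Finset.add_sum_erase _ _ (Finset.mem_range.2 (by norm_num : 0 < 11)), pow_zero, pow_zero,
      one_mul, apply_one_eq_charDegree, hd] at hcount
    have hI : MemLocalIdeal M (∑ j ∈ (Finset.range 11).erase 0,
        μ⁻¹ ^ j * (((2 : ℤ) : ℂ) * (θ : G → ℂ) (y ^ j) + 1)) := by
      refine memLocalIdeal_sum hM _ _ fun j hj => memLocalIdeal_mul hM ?_ (hval j fun h => ?_)
      · refine memLocalRing_of_isIntegral hM ((IsIntegral.of_pow (by norm_num : 0 < 11) ?_).pow j)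
        rw [inv_pow, hμ, inv_one]
        exact isIntegral_one
      · obtain ⟨hj0, hj11⟩ := Finset.mem_erase.1 hj
        exact hj0 (Nat.eq_zero_of_dvd_of_lt h (Finset.mem_range.1 hj11))
    have heq : ∑ j ∈ (Finset.range 11).erase 0,
        μ⁻¹ ^ j * (((2 : ℤ) : ℂ) * (θ : G → ℂ) (y ^ j) + 1) =
        ((22 * ((Finset.univ.filter fun i => ν i = μ).card : ℤ) - 49 : ℤ) : ℂ) := by
      simp only [mul_add, mul_one, Finset.sum_add_distrib, mul_left_comm _ ((2 : ℤ) : ℂ),
        ← Finset.mul_sum]
      push_cast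
      linear_combination (2 : ℂ) * hcount + hsum
    rw [heq, memLocalIdeal_intCast_iff hM] at hI
    omega
  have hpos : ∀ μ : ℂ, μ ^ 11 = 1 → 0 < (Finset.univ.filter fun i => ν i = μ).card := by
    intro μ hμ
    obtain ⟨n', ν', hν', htr', -, i, hi⟩ := exists_eigen θ (by omega) (by norm_num : Nat.Prime 23)
      hxo hy hk hfree hμ
    rw [Finset.card_pos]
    by_contra hcon
    rw [Finset.not_nonempty_iff_eq_empty] at hcon
    have hμ0 : μ ≠ 0 := by rintro rfl; norm_num at hμ
    have key : ∀ {m : ℕ} (f : Fin m → ℂ), (∀ i, f i ^ 11 = 1) →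
        ∑ j ∈ Finset.range 11, μ⁻¹ ^ j * ∑ i, f i ^ j =
          11 * ((Finset.univ.filter fun i => f i = μ).card : ℂ) := by
      intro m f hf
      simp only [Finset.mul_sum, ← mul_pow]
      rw [Finset.sum_comm, Finset.sum_congr rfl fun i _ => (by
        split_ifs with h
        · simp [h, hμ0]
        · have h3 := geom_sum_mul (μ⁻¹ * f i) 11
          rw [mul_pow, inv_pow, hμ, hf i, inv_one, mul_one, sub_self, mul_eq_zero] at h3
          exact h3.resolve_right (sub_ne_zero.2 fun e => h ((inv_mul_eq_one₀ hμ0).1 e).symm) :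
        ∑ j ∈ Finset.range 11, (μ⁻¹ * f i) ^ j = if f i = μ then (11 : ℂ) else 0),
        ← Finset.sum_filter, Finset.sum_const, nsmul_eq_mul]
      ring
    have h := key ν' hν'
    simp only [← htr', htr] at h
    rw [key ν hν, hcon, Finset.card_empty, Nat.cast_zero, mul_zero] at h
    have h' : (Finset.univ.filter fun i => ν' i = μ).card = 0 := by
      have := h.symm
      simpa using this
    exact (Finset.card_pos.2 ⟨i, Finset.mem_filter.2 ⟨Finset.mem_univ _, hi⟩⟩).ne' h'
  set R := ((Finset.range 11).erase 0).image fun j => ζ ^ j with hR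
  have hle : ∑ μ ∈ R, (Finset.univ.filter fun i => ν i = μ).card ≤ n := by
    rw [Finset.sum_card_fiberwise_eq_card_filter]
    exact (Finset.card_le_univ _).trans (by simp)
  have hge : R.card * 7 ≤ ∑ μ ∈ R, (Finset.univ.filter fun i => ν i = μ).card := by
    refine le_of_eq_of_le (by rw [Finset.sum_const, smul_eq_mul]) (Finset.sum_le_sum fun μ hμ => ?_)
    obtain ⟨j, hj, rfl⟩ := Finset.mem_image.1 hμ
    obtain ⟨hj0, hj11⟩ := Finset.mem_erase.1 hj
    have hμ : (ζ ^ j) ^ 11 = 1 := by rw [← pow_mul, mul_comm, pow_mul, hζ.pow_eq_one, one_pow]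
    exact Nat.le_of_dvd (hpos _ hμ)
      (hmult _ hμ (hζ.pow_ne_one_of_pos_of_lt hj0 (Finset.mem_range.1 hj11)))
  have hcard : R.card = 10 := by
    rw [hR, Finset.card_image_of_injOn, Finset.card_erase_of_mem (Finset.mem_range.2 (by norm_num)),
      Finset.card_range]
    intro a ha b hb hab
    exact hζ.pow_inj (Finset.mem_range.1 (Finset.mem_of_mem_erase ha))
      (Finset.mem_range.1 (Finset.mem_of_mem_erase hb)) hab
  omega

set_option maxHeartbeats 1000000 in
/-- No element of order seven commutes with an element of order eleven. -/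
theorem no_seven (hG : IsM24 G) {y w : G} (hy : orderOf y = 11) (hw : orderOf w = 7)
    (hyw : Commute y w) : False := by
  haveI := hG.1
  have hna := not_comm_of_isM24 hG
  obtain ⟨P, hPw⟩ := (IsPGroup.of_card (p := 7) (n := 1)
    (by rw [Nat.card_zpowers, hw, pow_one]) : IsPGroup 7 (zpowers w)).exists_le_sylow
  obtain ⟨E, hE⟩ := SmallExc.exists_pblk P (card_sylow_of hG (by decide) (by decide) P)
  subst hE
  have hwP : w ∈ (E.P : Subgroup G) := hPw (mem_zpowers w)
  have hw1 : w ≠ 1 := fun e => by rw [e, orderOf_one] at hw; norm_num at hw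
  have hyC : y ∈ Cent E := by
    rw [← centralizer_mem E hwP hw1]
    exact mem_centralizer_singleton_iff.2 hyw.eq
  obtain ⟨hprod, hn7, hn1, he1⟩ := sylow_data E hG (by decide)
  set n := Nat.card (Sylow 7 G) with hn
  have hprod' : n * E.e * coSize E = 34974720 := by unfold order at hprod; omega
  have h11 : 11 ∣ coSize E := by
    have h := orderOf_dvd_natCard (Cent E) hyC
    rw [hy, card_cent E] at h
    exact ((Nat.Prime.dvd_mul (by norm_num)).1 h).resolve_left (by norm_num)
  have hidx : (Cent E).index * coSize E = 34974720 := by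
    rw [index_cent E, ← hprod', hn]; ring
  have hmem : E.e ∈ Nat.divisors 6 := Nat.mem_divisors.2 ⟨E.e_dvd, by norm_num⟩
  rw [show Nat.divisors 6 = {1, 2, 3, 6} by decide] at hmem
  simp only [Finset.mem_insert, Finset.mem_singleton] at hmem
  have hsmall := not_small_signed E hna (by norm_num : Nat.Prime 11) (by norm_num : (7 : ℕ) ≠ 11)
    hyC hy
  obtain ⟨θ, hθ⟩ := E.Y_nonempty
  have hsol : ∀ (base : ℕ) (X : List ℤ), base ∣ coSize E → base ∣ 34974720 →
      degList 7 (34974720 / base) X = true →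
      ∃ L' ∈ msets (E.e - 1) X, sevenSol (34974720 / base) E.e L' = true ∧
        L'.Perm (signedX E) := by
    intro base X hbase hbN hX
    have hq : ∀ χ : IrrCharacter G, charDegree (χ : G → ℂ) ∣ (Cent E).index →
        charDegree (χ : G → ℂ) ∣ 34974720 / base := by
      intro χ h
      obtain ⟨m, hm⟩ := hbase
      refine h.trans ((Nat.dvd_div_iff_mul_dvd hbN).2 ⟨m, ?_⟩)
      rw [← hidx, hm]; ring
    have hlen : (signedX E).length = E.e - 1 := by have := length_signedX E; omega
    obtain ⟨L', h', hp⟩ := msets_complete (E.e - 1) X (signedX E) hlen fun F hF => by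
      obtain ⟨χ, hχ, hχ1, rfl⟩ := mem_signedX E hF
      refine mem_degList hX (E.sign χ hχ) (degree_lt hG χ).1 (two_le_degree hna hχ1)
        (hq χ (deg_dvd_X' E hχ)) (degree_mod_twentyThree hG χ) (X_degree_mod E hχ) ?_
      have := hsmall.1 _ hF
      simp only [H36.BlockDegree.Small] at this
      simp only [smallB, Bool.or_eq_false_iff, beq_eq_false_iff_ne]
      omega
    refine ⟨L', h', ?_, hp⟩
    have hsum : L'.sum = (signedX E).sum := hp.sum_eq
    have hsq : (L'.map fun F => F * F).sum = ((signedX E).map fun F => F * F).sum :=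
      (hp.map _).sum_eq
    have hs := sq_signedX E hθ
    rw [hG.2] at hs
    simp only [sevenSol, hsum, hsq, Bool.and_eq_true, decide_eq_true_eq]
    have hnat := natAbs_sign_mul E.hε (charDegree (θ : G → ℂ))
    have hT := sum_signedX E hθ
    refine ⟨?_, ?_⟩
    · rw [hT]
      refine excDeg_eq (by rw [hnat]; exact two_le_degree hna (Y_ne_triv E hθ))
        (by rw [hnat]; exact hq θ (deg_dvd_Y' E hθ))
        (by rw [hnat]; exact degree_mod_twentyThree hG θ) (Y_degree_mod E hθ) ?_
      have := hsmall.2 θ hθ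
      simp only [H36.BlockDegree.Small] at this
      simp only [smallB, Bool.or_eq_false_iff, beq_eq_false_iff_ne]
      rw [show ((7 - 1) / E.e : ℕ) = E.t from rfl]
      omega
    · rw [hT]
      rw [show E.t = 6 / E.e from rfl, sq] at hs
      exact hs
  rcases hmem with e | e | e | e
  · exact he1 e
  · obtain ⟨L', h', hs, -⟩ := hsol 11 seven11 h11 (by norm_num) seven11_list
    rw [e] at h' hs
    have h := List.all_eq_true.1 seven_two L' h'
    rw [hs] at h
    exact Bool.false_ne_true h
  · obtain ⟨L', h', hs, hp⟩ := hsol 11 seven11 h11 (by norm_num) seven11_list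
    rw [e] at h' hs
    have h := List.all_eq_true.1 seven_three L' h'
    rw [hs, Bool.not_true, Bool.false_or, beq_iff_eq] at h
    have hT := sum_signedX E hθ
    rw [← hp.sum_eq, h] at hT
    have ht : E.t = 2 := by show (7 - 1) / E.e = 2; rw [e]
    have hε : E.ε = 1 ∧ charDegree (θ : G → ℂ) = 24 := by
      rcases E.hε with e' | e' <;> rw [e'] at hT <;> simp at hT <;> omega
    refine no_deg24 hG E.hM hε.2 hy fun i hi => ?_
    have hyi : y ^ i ∈ Cent E := pow_mem hyC i
    have hreg : ¬ 7 ∣ orderOf (y ^ i) := fun h => by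
      have := h.trans (orderOf_pow_dvd (x := y) i)
      rw [hy] at this
      norm_num at this
    have hsum := sum_Y_section E hwP hw1 hyi hreg
    rw [hε.1] at hsum
    have hI : MemLocalIdeal E.M
        (∑ θ' ∈ E.Y, ((θ' : G → ℂ) (w * y ^ i) - (θ : G → ℂ) (y ^ i))) := by
      refine memLocalIdeal_sum E.hM _ _ fun θ' hθ' => ?_
      rw [← E.agree θ' hθ' θ hθ (y ^ i) hreg]
      exact congr_value E hyi hreg hwP
    rw [Finset.sum_sub_distrib, hsum, Finset.sum_const, card_Y_eq E, ht, nsmul_eq_mul] at hI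
    have h2 := memLocalIdeal_neg hI
    convert h2 using 1
    push_cast; ring
  · have hb : 66 ∣ coSize E ∨ 220 ∣ coSize E := by
      obtain ⟨k, hk⟩ := h11
      rw [e, hk] at hprod'
      have hk7 : k % 7 ≠ 0 := by
        intro h0
        obtain ⟨j, rfl⟩ : 7 ∣ k := Nat.dvd_of_mod_eq_zero h0
        have : 7 ∣ 34974720 := ⟨n * 6 * 11 * j, by rw [← hprod']; ring⟩
        norm_num at this
      have hnk : n * (11 * k) = 5829120 := by linarith
      have hdvd : k ∣ 967680 := by
        have hk23 : ¬ 23 ∣ k := by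
          intro h23
          obtain ⟨x, hx⟩ := exists_prime_orderOf_dvd_card' (G := Cent E) 23
            (by rw [card_cent E, hk]; exact Dvd.dvd.mul_left (Dvd.dvd.mul_left h23 _) _)
          have hxo : orderOf (x : G) = 23 := (Subgroup.orderOf_coe x).trans hx
          have hc : Commute (x : G) w := (commute_mem E hwP x.2).symm
          have := orderOf_dvd_of_mem_zpowers (commute_twentyThree hG hxo hc)
          rw [hw, hxo] at this
          norm_num at this
        have h6 : k ∣ 23040 := by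
          have h5 : k ∣ 23040 * 23 := ⟨n, by linarith⟩
          exact (((Nat.Prime.coprime_iff_not_dvd (by norm_num)).2 hk23).symm).dvd_of_dvd_mul_right h5
        exact h6.trans (by norm_num)
      have h := List.all_eq_true.1 seven_coSize k (mem_divList hdvd)
      have h1 : 5829120 % (11 * k) = 0 := Nat.mod_eq_zero_of_dvd ⟨n, by linarith⟩
      have h2 : 5829120 / (11 * k) = n := Nat.div_eq_of_eq_mul_left (by omega) hnk.symm
      have h3 : 11 * k < 5829120 := by
        rcases Nat.lt_or_ge (11 * k) 5829120 with h3 | h3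
        · exact h3
        · exfalso
          have hle := Nat.le_of_dvd (by norm_num) ⟨n, show 5829120 = 11 * k * n by linarith⟩
          apply hn1
          rw [show 11 * k = 5829120 by omega] at hnk
          omega
      rw [h2, beq_iff_eq.2 h1, beq_iff_eq.2 hn7, decide_eq_true h3, bne_iff_ne.2 hk7, Bool.and_self,
        Bool.and_self, Bool.and_self, Bool.not_true, Bool.false_or, Bool.or_eq_true, beq_iff_eq,
        beq_iff_eq] at h
      rw [hk]
      exact h.imp Nat.dvd_of_mod_eq_zero Nat.dvd_of_mod_eq_zero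
    rcases hb with hb | hb
    · obtain ⟨L', h', hs, -⟩ := hsol 66 seven66 hb (by norm_num) seven66_list
      rw [e] at h' hs
      have h := List.all_eq_true.1 seven_six66 L' h'
      rw [hs] at h
      exact Bool.false_ne_true h
    · obtain ⟨L', h', hs, -⟩ := hsol 220 seven220 hb (by norm_num) seven220_list
      rw [e] at h' hs
      have h := List.all_eq_true.1 seven_six220 L' h'
      rw [hs] at h
      exact Bool.false_ne_true h

end Cfsg.Agent.H75.MTwentyFour
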