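import Cfsg.Agent.H75.MTwentyFour.Basic
import Cfsg.Agent.Compute.G22.Char

/-!
A Sylow 23-subgroup of a simple group of order 244823040 is self-centralising, of index eleven in its
normaliser.
-/

set_option linter.unusedSectionVars false
set_option linter.style.haveILetI false

open scoped ComplexConjugate Classical

namespace Cfsg.Agent.H75.MTwentyFour

open CharBasic Subgroup BlockBasic H86 H86.MTwentyTwo

universe u

local instance factTwentyThree : Fact (Nat.Prime 23) := ⟨by norm_num⟩
local instance factEleven : Fact (Nat.Prime 11) := ⟨by norm_num⟩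
local instance factTwo : Fact (Nat.Prime 2) := ⟨Nat.prime_two⟩
local instance factFive : Fact (Nat.Prime 5) := ⟨Nat.prime_five⟩

theorem small_two : ∀ k < 10, ∀ j < k, ¬ 2 ^ j ≡ 2 ^ k [MOD 11] := by decide

variable {G : Type u} [Group G] [Fintype G]

/-- An element of order five centralising an element of order 11 forces two orbits at 11. -/
theorem two_at_eleven (hG : IsM24 G) (D : SmallExc.PBlk G 11) {w : G} (hw : w ∈ Cent D)
    (hwo : orderOf w = 5) : D.e = 2 := by
  obtain ⟨hprod, -, -, he1⟩ := sylow_data D hG (by decide)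
  have h5 : 5 ∣ coSize D := by
    have h := orderOf_dvd_natCard (Cent D) hw
    rw [hwo, card_cent D] at h
    exact (Nat.Prime.dvd_mul Nat.prime_five).1 h |>.resolve_left (by norm_num)
  obtain ⟨k, hk⟩ := h5
  have hmem : D.e ∈ Nat.divisors 10 := Nat.mem_divisors.2 ⟨D.e_dvd, by norm_num⟩
  rw [show Nat.divisors 10 = {1, 2, 5, 10} by decide] at hmem
  simp only [Finset.mem_insert, Finset.mem_singleton] at hmem
  rw [hk] at hprod
  unfold order at hprod
  have hdvd : D.e * 5 ∣ 22256640 := ⟨Nat.card (Sylow 11 G) * k, by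
    have : 22256640 * 11 = Nat.card (Sylow 11 G) * D.e * (5 * k) * 11 := by rw [hprod]
    have h := Nat.eq_of_mul_eq_mul_right (by norm_num) this
    rw [h]; ring⟩
  rcases hmem with e | e | e | e
  · exact absurd e he1
  · exact e
  all_goals rw [e] at hdvd; norm_num at hdvd

/-- No element of order five centralises a Sylow 23-subgroup and is centralised by one of order 11. -/
theorem no_five (hG : IsM24 G) (D : SmallExc.PBlk G 23) {w y : G} (hw : w ∈ Cent D)
    (hwo : orderOf w = 5) (hyo : orderOf y = 11) (hyw : Commute y w) : False := by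
  haveI := hG.1
  have hna := not_comm_of_isM24 hG
  obtain ⟨P, hPy⟩ := (IsPGroup.of_card (p := 11) (n := 1)
    (by rw [Nat.card_zpowers, hyo, pow_one]) : IsPGroup 11 (zpowers y)).exists_le_sylow
  have hP := card_sylow_of hG (p := 11) (by decide) (by decide) P
  obtain ⟨E, hE⟩ := SmallExc.exists_pblk P hP
  subst hE
  have hyP : y ∈ (E.P : Subgroup G) := hPy (mem_zpowers y)
  have hy1 : y ≠ 1 := fun h => by rw [h, orderOf_one] at hyo; norm_num at hyo
  have hwE : w ∈ Cent E := by
    rw [← centralizer_mem E hyP hy1]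
    exact mem_centralizer_singleton_iff.2 hyw.symm.eq
  obtain ⟨χ, hχX, hX, hχ1, hF, hT⟩ := two_orbits E hG (two_at_eleven hG E hwE hwo) pairs_eleven
  have hns := (not_small_signed E hna Nat.prime_five (by norm_num) hwE hwo).1
    (E.εX χ * (charDegree (χ : G → ℂ) : ℤ)) (List.mem_map.2
      ⟨χ, Finset.mem_toList.2 (Finset.mem_erase.2 ⟨hχ1, hχX⟩), rfl⟩)
  obtain ⟨θ, hθ⟩ := E.Y_nonempty
  have hT := hT θ hθ
  obtain ⟨x, hx, hx1⟩ := D.exists_ne_one
  have hxo := orderOf_mem D hx hx1
  have hxw := commute_mem D hx hw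
  -- the two orders of `x ^ i * w ^ j`
  have hord : ∀ i j : ℕ, ¬ 23 ∣ i →
      23 ∣ orderOf (x ^ i * w ^ j) ∧ ¬ 11 ∣ orderOf (x ^ i * w ^ j) := by
    intro i j hi
    have h23 : orderOf (x ^ i) = 23 := orderOf_mem D (pow_mem hx i) fun h =>
      hi (hxo ▸ orderOf_dvd_of_pow_eq_one h)
    have hw5 : orderOf (w ^ j) ∣ 5 := (orderOf_pow_dvd (x := w) j).trans hwo.dvd
    have hcop : Nat.Coprime (orderOf (x ^ i)) (orderOf (w ^ j)) :=
      Nat.Coprime.coprime_dvd_right hw5 (by rw [h23]; norm_num)
    rw [(hxw.pow_pow i j).orderOf_mul_eq_mul_orderOf_of_coprime hcop, h23]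
    exact ⟨dvd_mul_right _ _, fun h => by
      have := h.trans (mul_dvd_mul_left 23 hw5)
      norm_num at this⟩
  have hrel : ∀ g : G, ¬ 11 ∣ orderOf g →
      (E.ε : ℂ) * (θ : G → ℂ) g = 1 + (E.εX χ : ℂ) * (χ : G → ℂ) g := by
    intro g hg
    rw [E.rel θ hθ g hg, hX, Finset.sum_pair (Ne.symm hχ1), SmallExc.PBlk.εX_triv E, Int.cast_one,
      one_mul]
    rfl
  simp only [List.mem_cons, List.not_mem_nil, or_false] at hF
  unfold H36.BlockDegree.Small at hns
  rcases hF with h | h | h | h
  · exact hns (Or.inl (by rw [h]; norm_num))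
  · exact hns (Or.inr (Or.inl (by rw [h]; norm_num)))
  · -- degrees 23 and 24
    rw [h] at hT
    have hε : E.ε = 1 ∧ charDegree (θ : G → ℂ) = 24 := by
      rcases E.hε with e | e <;> rw [e] at hT <;> omega
    have hd : charDegree (χ : G → ℂ) = 23 := by
      rcases E.sign χ hχX with e | e <;> rw [e] at h <;> omega
    refine H36.BlockDegree.not_small hna (IsIrr.isCharacter θ.2) (by norm_num) Nat.prime_five
      (show (23 : ℕ) ≠ 5 by norm_num) hxo hwo hxw (δ := 1) (Or.inl rfl) (fun i j hi => ?_)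
      (apply_one_eq_charDegree θ) (Or.inr (Or.inr (by rw [hε.2]; norm_num)))
    obtain ⟨h23, h11⟩ := hord i j hi
    have h1 := hrel _ h11
    rw [eq_zero_of_dvd D (χ := χ) (by rw [hd]) h23, hε.1, mul_zero, add_zero, Int.cast_one, one_mul] at h1
    rw [h1, Int.cast_one]
  · -- degrees 45 and 46
    rw [h] at hT
    have hθd : charDegree (θ : G → ℂ) = 46 := by
      rcases E.hε with e | e <;> rw [e] at hT <;> omega
    have hd : E.εX χ = 1 ∧ charDegree (χ : G → ℂ) = 45 := by
      rcases E.sign χ hχX with e | e <;> rw [e] at h <;> omega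
    refine H36.BlockDegree.not_small hna (IsIrr.isCharacter χ.2) (by norm_num) Nat.prime_five
      (show (23 : ℕ) ≠ 5 by norm_num) hxo hwo hxw (δ := -1) (Or.inr rfl) (fun i j hi => ?_)
      (apply_one_eq_charDegree χ) (Or.inr (Or.inl (by rw [hd.2]; norm_num)))
    obtain ⟨h23, h11⟩ := hord i j hi
    have h1 := hrel _ h11
    rw [eq_zero_of_dvd D (χ := θ) (by rw [hθd]; norm_num) h23, hd.1, mul_zero, Int.cast_one, one_mul] at h1
    push_cast
    linear_combination -h1

variable (D : SmallExc.PBlk G 23)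

set_option maxHeartbeats 1000000 in
/-- An odd degree in the principal block determines the centraliser of an involution. -/
theorem odd_cent (hG : IsM24 G) (he : D.e = 11 ∨ D.e = 22) {z : G} (hzC : z ∈ Cent D)
    (hz : orderOf z = 2) (hc : 253 ∣ Nat.card (centralizer ({z} : Set G))) {χ : IrrCharacter G}
    (hχ : χ ∈ D.X ∨ χ ∈ D.Y) (hχ1 : χ ≠ trivialIrr) (hodd : charDegree (χ : G → ℂ) % 2 = 1) :
    Nat.card (centralizer ({z} : Set G)) ∈ oddCents := by
  haveI := hG.1
  have hna := not_comm_of_isM24 hG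
  have hN : Nat.card G = order := hG.2
  set C := centralizer ({z} : Set G) with hC
  set c := Nat.card C with hcc
  have hch : c * C.index = order := hN ▸ C.card_mul_index
  set d := charDegree (χ : G → ℂ) with hd
  obtain ⟨a, hva, h4, hlo, hhi⟩ := Compute.G22.invol_value (exists_noncomm hG)
    (χ := χ) (fun h => hχ1 (Subtype.ext h)) rfl hz
  rw [← hd] at h4 hlo hhi
  have hzreg : ¬ 23 ∣ orderOf z := by rw [hz]; norm_num
  have h23 : (23 : ℤ) ∣ (d : ℤ) - a ∧
      ((D.e = 11 → d = 45 → False) ∧ d ≠ 11 ∧ (D.e = 22 → d = 45 → False)) ∧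
      d % 23 ∈ ([1, 22, 11, 12] : List ℕ) := by
    have hsmall := not_small_signed D hna Nat.prime_two (show (23 : ℕ) ≠ 2 by norm_num) hzC hz
    rcases hχ with hX | hY
    · have h1 := X_degree_mod D hX
      have h2 := Int.modEq_iff_dvd.1 (val_X_modEq D hX hzC hzreg hva)
      have hs := hsmall.1 (D.εX χ * (charDegree (χ : G → ℂ) : ℤ)) (List.mem_map.2
        ⟨χ, Finset.mem_toList.2 (Finset.mem_erase.2 ⟨hχ1, hX⟩), rfl⟩)
      unfold H36.BlockDegree.Small at hs
      rw [← hd] at h1 hs
      simp only [List.mem_cons, List.not_mem_nil, or_false]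
      rcases D.sign χ hX with e | e <;> rw [e] at h1 h2 hs <;> omega
    · have h1 := Y_degree_mod D hY
      have h2 := Int.modEq_iff_dvd.1 (val_Y_modEq D hY hzC hzreg hva)
      have hs := hsmall.2 χ hY
      unfold H36.BlockDegree.Small at hs
      rw [← hd] at h1 hs
      have ht := D.e_mul_t
      have het : D.e = 11 ∧ D.t = 2 ∨ D.e = 22 ∧ D.t = 1 := by
        rcases he with e' | e' <;> rw [e'] at ht <;> omega
      simp only [List.mem_cons, List.not_mem_nil, or_false]
      rcases het with ⟨e', ht'⟩ | ⟨e', ht'⟩ <;> rw [e'] at h1 h2 <;> rw [ht'] at hs <;>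
        rcases D.hε with e | e <;> rw [e] at h1 h2 hs <;> omega
  obtain ⟨h23, ⟨h45, hd11, h45'⟩, hmod⟩ := h23
  obtain ⟨hd1, hd2⟩ := degree_lt hG χ
  rw [← hd] at hd1 hd2
  have hdl : d ∈ ([1, 11, 35, 45, 231, 495, 10395] : List ℕ) := by
    have h := List.all_eq_true.1 odd_degrees (d / 2) (List.mem_range.2 (by omega))
    rw [show 2 * (d / 2) + 1 = d by omega, beq_iff_eq.2 (Nat.mod_eq_zero_of_dvd hd2),
      List.contains_iff_mem.2 hmod, Bool.not_true, Bool.false_or, Bool.false_or] at h
    exact List.contains_iff_mem.1 h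
  have hd2' : 2 ≤ d := two_le_degree hna hχ1
  obtain ⟨k, hk⟩ := hc
  rw [hk] at hch
  have h11 : 11 ∣ d → (11 : ℤ) ∣ a := by
    intro h
    have hdvd := dvd_index_mul χ hva
    rw [← hd, ← hC] at hdvd
    have h' : (11 : ℤ) ∣ (C.index : ℤ) * a := (Int.natCast_dvd_natCast.2 h).trans hdvd
    refine ((Nat.prime_iff_prime_int.1 (by norm_num : Nat.Prime 11)).dvd_or_dvd h').resolve_left ?_
    intro hh
    obtain ⟨m, hm⟩ : 11 ∣ C.index := Int.natCast_dvd_natCast.1 hh
    rw [hm] at hch
    unfold order at hch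
    have : (11 * 11 : ℕ) ∣ 244823040 := ⟨23 * k * m, by rw [← hch]; ring⟩
    norm_num at this
  simp only [List.mem_cons, List.not_mem_nil, or_false] at hdl
  rcases hdl with h | h | h | h | h | h | h
  · omega
  · exact absurd h hd11
  · omega
  · rcases he with e | e
    · exact (h45 e h).elim
    · exact (h45' e h).elim
  · have := h11 (by rw [h]; norm_num); omega
  · have := h11 (by rw [h]; norm_num); omega
  · have h11a := h11 (by rw [h]; norm_num)
    have hkd : k ∣ 967680 := ⟨C.index, by unfold order at hch; linarith⟩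
    have hchk := List.all_eq_true.1 check_big k (mem_divList hkd)
    have h2c : 2 ∣ c := by
      rw [← hz]
      exact orderOf_dvd_natCard C (mem_centralizer_singleton_iff.2 rfl)
    rw [hk] at h2c
    rw [beq_iff_eq.2 (Nat.mod_eq_zero_of_dvd h2c), Bool.not_true, Bool.false_or,
      List.all_eq_true] at hchk
    have hi := hchk ((a - 275) / 1012 + 11).toNat (List.mem_range.2 (by omega))
    have hv : (275 : ℤ) + 1012 * ((((a - 275) / 1012 + 11).toNat : ℕ) - 11) = a := by omega
    simp only [hv] at hi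
    have hlt : a * a < (253 * k : ℕ) := by
      have hall : ∀ ψ : IrrCharacter G, ∃ b : ℤ, (ψ : G → ℂ) z = b := by
        intro ψ
        by_cases hψ : ψ = trivialIrr
        · exact ⟨1, by rw [hψ, Int.cast_one]; rfl⟩
        · obtain ⟨b, hb, -⟩ := Compute.G22.invol_value (exists_noncomm hG)
            (χ := ψ) (fun h => hψ (Subtype.ext h)) rfl hz
          exact ⟨b, hb⟩
      choose v hv' using hall
      have hvt : v trivialIrr = 1 := by
        have h' : ((v trivialIrr : ℤ) : ℂ) = ((1 : ℤ) : ℂ) := by rw [← hv', Int.cast_one]; rfl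
        exact Int.cast_injective h'
      have hva' : v χ = a := Int.cast_injective ((hv' χ).symm.trans hva)
      have hle := sum_sq_le_centralizer hv' {trivialIrr, χ}
      rw [Finset.sum_pair (Ne.symm hχ1), hvt, hva', ← hC, ← hcc, hk] at hle
      linarith
    have hdvd := dvd_index_mul χ hva
    rw [← hd, h, ← hC] at hdvd
    have hidx : order / (253 * k) = C.index := by
      refine Nat.div_eq_of_eq_mul_right ?_ hch.symm
      rw [← hk]; exact Nat.card_pos
    rw [hidx, beq_iff_eq.2 (Int.emod_eq_zero_of_dvd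
        (show (10395 : ℤ) ∣ (C.index : ℤ) * a from by exact_mod_cast hdvd)),
      decide_eq_true (show a.natAbs < 10395 by omega), decide_eq_true hlt, Bool.and_self,
      Bool.and_self, Bool.not_true, Bool.false_or] at hi
    rw [hk]
    exact List.contains_iff_mem.1 hi

/-- The parity of the degree equation. -/
theorem exists_odd (hG : IsM24 G) : ∃ χ : IrrCharacter G, (χ ∈ D.X ∨ χ ∈ D.Y) ∧ χ ≠ trivialIrr ∧
    charDegree (χ : G → ℂ) % 2 = 1 := by
  haveI := hG.1
  by_contra hcon
  have hall : ∀ χ : IrrCharacter G, (χ ∈ D.X ∨ χ ∈ D.Y) → χ ≠ trivialIrr →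
      2 ∣ charDegree (χ : G → ℂ) := fun χ h h' =>
    Nat.dvd_of_mod_eq_zero ((Nat.mod_two_eq_zero_or_one _).resolve_right fun e =>
      hcon ⟨χ, h, h', e⟩)
  obtain ⟨θ, hθ⟩ := D.Y_nonempty
  have h1 := sum_signedX D hθ
  have h2 : (2 : ℤ) ∣ (signedX D).sum := List.dvd_sum fun F hF => by
    obtain ⟨χ, hχ, hχ1, rfl⟩ := mem_signedX D hF
    exact dvd_mul_of_dvd_right (Int.natCast_dvd_natCast.2
      (hall χ (Or.inl hχ) hχ1)) _
  have h3 : (2 : ℤ) ∣ D.ε * (charDegree (θ : G → ℂ) : ℤ) :=
    dvd_mul_of_dvd_right (Int.natCast_dvd_natCast.2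
      (hall θ (Or.inr hθ) (Y_ne_triv D hθ))) _
  omega

/-- With seventy Sylow subgroups the centraliser has order dividing `23 ^ 3 * 6`. -/
theorem seventy (hG : IsM24 G) (hn : Nat.card (Sylow 23 G) = 70) :
    Nat.card (Cent D) ∣ 73002 := by
  haveI := hG.1
  obtain ⟨x, hx, hx1⟩ := D.exists_ne_one
  have hxo := orderOf_mem D hx hx1
  set f := MulAction.toPermHom G (Sylow 23 G) with hf
  have hinj : Function.Injective f := by
    refine (MonoidHom.ker_eq_bot_iff f).1 (((MonoidHom.normal_ker f).eq_bot_or_eq_top).resolve_right ?_)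
    intro htop
    have hss : Subsingleton (Sylow 23 G) := ⟨fun P Q => by
      obtain ⟨g, rfl⟩ := MulAction.exists_smul_eq G P Q
      have hg : f g = 1 := MonoidHom.mem_ker.1 (htop ▸ mem_top g)
      exact (DFunLike.congr_fun hg P).symm⟩
    have := Finite.card_le_one_iff_subsingleton.2 hss
    omega
  have hso : orderOf (f x) = 23 := by rw [orderOf_injective f hinj, hxo]
  have hfix : ∀ Q : Sylow 23 G, f x Q = Q ↔ Q = D.P := by
    intro Q
    constructor
    · intro h
      have hN : x ∈ normalizer (Q : Set G) := Sylow.smul_eq_iff_mem_normalizer.1 h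
      have hpg : IsPGroup 23 (zpowers x) :=
        IsPGroup.of_card (n := 1) (by rw [Nat.card_zpowers, hxo, pow_one])
      have hxQ : x ∈ (Q : Subgroup G) :=
        (le_of_eq (hpg.inf_normalizer_sylow Q) ⟨mem_zpowers x, hN⟩).2
      refine Sylow.ext ?_
      have hQ : Nat.card (Q : Subgroup G) = 23 := card_sylow_of hG (by decide) (by decide) Q
      have h1 : zpowers x = (Q : Subgroup G) := eq_of_le_of_card_ge (zpowers_le.2 hxQ)
        (by rw [Nat.card_zpowers, hxo, hQ])
      have h2 : zpowers x = (D.P : Subgroup G) := eq_of_le_of_card_ge (zpowers_le.2 hx)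
        (by rw [Nat.card_zpowers, hxo, show Nat.card (D.P : Subgroup G) = 23 from D.card_P])
      exact h1.symm.trans h2
    · rintro rfl
      exact Sylow.smul_eq_iff_mem_normalizer.2 (le_normalizer hx)
  haveI := Fintype.ofFinite (Sylow 23 G)
  have hsupp : (f x).support = Finset.univ.erase D.P := by
    ext Q
    simp [Equiv.Perm.mem_support, hfix]
  have hcard : Fintype.card (Sylow 23 G) = 70 := by rw [← Nat.card_eq_fintype_card, hn]
  obtain ⟨m, hm⟩ := Equiv.Perm.cycleType_prime_order (σ := f x) (by rw [hso]; norm_num)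
  rw [hso] at hm
  have hsum := Equiv.Perm.sum_cycleType (f x)
  rw [hm, Multiset.sum_replicate, hsupp, Finset.card_erase_of_mem (Finset.mem_univ _),
    Finset.card_univ, hcard, smul_eq_mul] at hsum
  obtain rfl : m = 2 := by omega
  have hcent := Equiv.Perm.nat_card_centralizer (g := f x)
  rw [hm, hcard] at hcent
  have hle : (Cent D).map f ≤ centralizer ({f x} : Set (Equiv.Perm (Sylow 23 G))) := by
    rintro _ ⟨c, hc, rfl⟩
    exact mem_centralizer_singleton_iff.2 (((commute_mem D hx hc).map f).eq.symm)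
  have h := card_dvd_of_le hle
  rw [card_map_of_injective hinj, hcent] at h
  simpa [Multiset.toFinset_replicate, Multiset.prod_replicate, Multiset.sum_replicate,
    Nat.factorial] using h

omit [Fintype G] in
theorem dvd_of_mem_coSizes {L : ℕ} : ∀ e, L ∈ coSizes e → e = 11 ∧ L = 1 ∨ 5 ∣ L ∨
    ∃ L₂, (e, L, L₂) ∈ cases := by
  intro e hL
  match e, hL with
  | 11, hL =>
    simp only [coSizes, List.mem_cons, List.not_mem_nil, or_false] at hL
    rcases hL with h | h | h | h | h | h | h <;> subst h <;>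
      first
        | exact Or.inl ⟨rfl, rfl⟩
        | (refine Or.inr (Or.inl ?_); norm_num; done)
        | (refine Or.inr (Or.inr ?_); simp [cases])
  | 22, hL =>
    simp only [coSizes, List.mem_cons, List.not_mem_nil, or_false] at hL
    rcases hL with h | h | h | h | h | h <;> subst h <;>
      first
        | (refine Or.inr (Or.inl ?_); norm_num; done)
        | (refine Or.inr (Or.inr ?_); simp [cases])

omit [Fintype G] in
/-- A Sylow 23-subgroup is self-centralising, of index eleven in its normaliser. -/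
theorem twentyThree (hG : IsM24 G) (P : Sylow 23 G) :
    centralizer ((P : Subgroup G) : Set G) = (P : Subgroup G) ∧
      (centralizer ((P : Subgroup G) : Set G)).relIndex (normalizer (P : Set G)) = 11 := by
  haveI := finite_of_isM24 hG
  haveI := hG.1
  letI := Fintype.ofFinite G
  have hna := not_comm_of_isM24 hG
  have hP := card_sylow_of hG (p := 23) (by decide) (by decide) P
  obtain ⟨D, rfl⟩ := SmallExc.exists_pblk P hP
  obtain ⟨hprod, hn23, hn1, he1⟩ := sylow_data D hG (by decide)
  set n := Nat.card (Sylow 23 G) with hn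
  have hprod' : n * D.e * coSize D = 10644480 := by unfold order at hprod; omega
  have hmem : D.e ∈ Nat.divisors 22 := Nat.mem_divisors.2 ⟨D.e_dvd, by norm_num⟩
  rw [show Nat.divisors 22 = {1, 2, 11, 22} by decide] at hmem
  simp only [Finset.mem_insert, Finset.mem_singleton] at hmem
  have he : D.e = 11 ∨ D.e = 22 := by
    rcases hmem with e | e | e | e
    · exact absurd e he1
    · exfalso
      obtain ⟨χ, hχX, -, hχ1, hF, -⟩ := two_orbits D hG e pairs_twentyThree
      have hL1 : coSize D ≠ 1 := fun h => by rw [h, e] at hprod'; omega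
      obtain ⟨q, hq, hqd⟩ := Nat.exists_prime_and_dvd hL1
      haveI : Fact q.Prime := ⟨hq⟩
      obtain ⟨w, hw⟩ := exists_prime_orderOf_dvd_card' (G := Cent D) q
        (by rw [card_cent D]; exact Dvd.dvd.mul_left hqd _)
      have hq23 : 23 ≠ q := fun h => by
        subst h
        obtain ⟨k, hk⟩ := hqd
        rw [hk, e] at hprod'
        have h23 : 23 ∣ 10644480 := ⟨n * 2 * k, by rw [← hprod']; ring⟩
        norm_num at h23
      have hns := (not_small_signed D hna hq hq23 w.2 ((Subgroup.orderOf_coe w).trans hw)).1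
        (D.εX χ * (charDegree (χ : G → ℂ) : ℤ)) (List.mem_map.2
          ⟨χ, Finset.mem_toList.2 (Finset.mem_erase.2 ⟨hχ1, hχX⟩), rfl⟩)
      simp only [List.mem_cons, List.not_mem_nil, or_false] at hF
      unfold H36.BlockDegree.Small at hns
      omega
    · exact Or.inl e
    · exact Or.inr e
  have hL : coSize D ∈ coSizes D.e := by
    have hdvd : coSize D ∣ 967680 := by
      rcases he with e | e <;> rw [e] at hprod'
      · exact ⟨n, by linarith⟩
      · exact ⟨n * 2, by linarith⟩
    have h := List.all_eq_true.1 check_coSize _ (mem_divList hdvd)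
    rw [List.all_eq_true] at h
    have h' := h D.e (by rcases he with e | e <;> simp [e])
    have h1 : 10644480 % (D.e * coSize D) = 0 :=
      Nat.mod_eq_zero_of_dvd ⟨n, by rw [← hprod']; ring⟩
    have h2 : (D.e * coSize D) % 23 = 11 := by
      have : (n * (D.e * coSize D)) % 23 = 10644480 % 23 := by rw [← mul_assoc, hprod']
      rw [Nat.mul_mod, hn23, one_mul, Nat.mod_mod] at this
      exact this
    have h3 : D.e * coSize D < 10644480 := by
      refine lt_of_le_of_ne (Nat.le_of_dvd (by norm_num) ⟨n, by rw [← hprod']; ring⟩) fun h3 => hn1 ?_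
      rw [mul_assoc, h3] at hprod'
      omega
    rw [beq_iff_eq.2 h2, beq_iff_eq.2 h1, decide_eq_true h3, Bool.and_self, Bool.and_self,
      Bool.not_true, Bool.false_or] at h'
    exact List.contains_iff_mem.1 h'
  have hCcard : Nat.card (Cent D) = 23 * coSize D := card_cent D
  rcases dvd_of_mem_coSizes _ hL with ⟨e, h1⟩ | h5 | ⟨L₂, hcase⟩
  · refine ⟨(eq_of_le_of_card_ge (le_cent D) ?_).symm, e⟩
    rw [hCcard, h1, mul_one]
    exact hP.ge
  · exfalso
    have h11 : ¬ 11 ∣ Nat.card (Cent D) := by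
      rw [hCcard]
      have hL' := hL
      rcases he with e | e <;> rw [e] at hL' <;>
        simp only [coSizes, List.mem_cons, List.not_mem_nil, or_false] at hL' <;> omega
    obtain ⟨Q, y, hQC, hQcard, -, -, hyo, hyQ⟩ :=
      exists_normalising D (r := 11) (by rcases he with e | e <;> rw [e] <;> norm_num) h11 5
    set k := (Nat.card (Cent D)).factorization 5 with hk
    have hk1 : k = 1 := by
      refine le_antisymm ?_ ((Nat.Prime.dvd_iff_one_le_factorization Nat.prime_five
        Nat.card_pos.ne').1 (by rw [hCcard]; exact Dvd.dvd.mul_left h5 _))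
      by_contra hgt
      have h25 : 5 ^ 2 ∣ Nat.card (Cent D) :=
        (Nat.prime_five.pow_dvd_iff_le_factorization Nat.card_pos.ne').2 (by omega)
      rw [hCcard] at h25
      have hL' := hL
      rcases he with e | e <;> rw [e] at hL' <;>
        simp only [coSizes, List.mem_cons, List.not_mem_nil, or_false] at hL' <;> omega
    rw [hk1, pow_one] at hQcard
    obtain ⟨w, hw⟩ := exists_prime_orderOf_dvd_card' (G := Q) 5 (by rw [hQcard])
    exact no_five hG D (hQC w.2) ((Subgroup.orderOf_coe w).trans hw) hyo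
      (commute_of_small (p := 11) (k := 1) (by rw [hQcard, pow_one]) Nat.prime_five
        (hyo ▸ pow_orderOf_eq_one y) hyQ (by decide) w w.2)
  · exfalso
    have hfacts : D.e ∈ [11, 22] ∧ L₂ ∣ coSize D ∧ ¬ 11 ∣ 23 * coSize D ∧
        ¬ 2 ^ 10 ∣ 23 * coSize D ∧ 2 ∣ L₂ ∧ Nat.Coprime L₂ 23 ∧ (6912 ≤ coSize D →
          10644480 = 70 * (D.e * coSize D) ∧ ¬ 23 * coSize D ∣ 73002) := by
      have hcase' := hcase
      simp only [cases, List.mem_cons, List.not_mem_nil, or_false, Prod.mk.injEq] at hcase'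
      rcases hcase' with h | h | h | h | h | h <;> obtain ⟨h1, h2, h3⟩ := h <;>
        rw [h1, h2, h3] <;> norm_num
    obtain ⟨-, hL2, h11, h1024, h2L, hcop, hbig⟩ := hfacts
    rw [← hCcard] at h11 h1024
    obtain ⟨Q, y, hQC, hQcard, hyN, -, hyo, hyQ⟩ :=
      exists_normalising D (r := 11) (by rcases he with e | e <;> rw [e] <;> norm_num) h11 2
    set k := (Nat.card (Cent D)).factorization 2 with hk
    have hk10 : k < 10 := by
      by_contra hge
      exact h1024 ((Nat.prime_two.pow_dvd_iff_le_factorization Nat.card_pos.ne').2 (by omega))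
    have hcomm := commute_of_small (p := 11) hQcard Nat.prime_two (hyo ▸ pow_orderOf_eq_one y) hyQ
      (fun j hj => small_two k hk10 j hj)
    obtain ⟨a, ha, hae⟩ : ∃ a ≤ k, L₂ = 2 ^ a := by
      have hcase' := hcase
      simp only [cases, List.mem_cons, List.not_mem_nil, or_false, Prod.mk.injEq] at hcase'
      have hdv : L₂ ∣ Nat.card (Cent D) := hCcard ▸ Dvd.dvd.mul_left hL2 _
      have key : ∀ a, L₂ = 2 ^ a → ∃ a ≤ k, L₂ = 2 ^ a := fun a h => ⟨a,
        (Nat.prime_two.pow_dvd_iff_le_factorization Nat.card_pos.ne').1 (h ▸ hdv), h⟩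
      rcases hcase' with h | h | h | h | h | h
      · exact key 3 (by rw [h.2.2]; norm_num)
      · exact key 6 (by rw [h.2.2]; norm_num)
      · exact key 9 (by rw [h.2.2]; norm_num)
      · exact key 2 (by rw [h.2.2]; norm_num)
      · exact key 5 (by rw [h.2.2]; norm_num)
      · exact key 8 (by rw [h.2.2]; norm_num)
    have hk0 : k ≠ 0 := fun h0 => by
      have : a = 0 := by omega
      rw [this, pow_zero] at hae
      rw [hae] at h2L
      norm_num at h2L
    haveI : Nontrivial Q := Finite.one_lt_card_iff_nontrivial.1 (by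
      rw [hQcard]; exact Nat.one_lt_two_pow hk0)
    have hQp : IsPGroup 2 Q := IsPGroup.of_card hQcard
    haveI := hQp.center_nontrivial
    obtain ⟨b, -, hb⟩ := (Nat.dvd_prime_pow Nat.prime_two).1
      (hQcard ▸ card_subgroup_dvd_card (center Q))
    have hb0 : b ≠ 0 := fun h0 => by
      have := Finite.one_lt_card_iff_nontrivial.2 (inferInstance : Nontrivial (center Q))
      rw [hb, h0, pow_zero] at this
      omega
    obtain ⟨z, hz⟩ := exists_prime_orderOf_dvd_card' (G := center Q) 2 (hb ▸ dvd_pow_self 2 hb0)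
    have hzo : orderOf ((z : Q) : G) = 2 := by
      rw [Subgroup.orderOf_coe, Subgroup.orderOf_coe, hz]
    have hzC : ((z : Q) : G) ∈ Cent D := hQC z.1.2
    obtain ⟨n', m, j, hc, hn', hj11, hje, hmL, hQm⟩ := cent_count D hzC hyN
      (hcomm _ z.1.2) hyo h11 hQC (fun w hw =>
        (congrArg Subtype.val (Subgroup.mem_center_iff.1 z.2 ⟨w, hw⟩) : w * z.1.1 = z.1.1 * w))
    have hm2 : L₂ ∣ m := by
      have h : L₂ ∣ 23 * m := (hae ▸ Nat.pow_dvd_pow 2 ha).trans (hQcard ▸ hQm)
      exact hcop.dvd_of_dvd_mul_left h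
    have h253 : 253 ∣ Nat.card (centralizer ({((z : Q) : G)} : Set G)) := by
      obtain ⟨j', rfl⟩ := hj11
      exact ⟨n' * m * j', by rw [hc]; ring⟩
    obtain ⟨χ, hχ, hχ1, hodd⟩ := exists_odd D hG
    have hoc := odd_cent D hG he hzC hzo h253 hχ hχ1 hodd
    set c := Nat.card (centralizer ({((z : Q) : G)} : Set G)) with hcdef
    have hchk := List.all_eq_true.1 check_count _ hcase
    rw [List.all_eq_true] at hchk
    have hchk := hchk c hoc
    rw [List.all_eq_true] at hchk
    have hm0 : m ≠ 0 := fun h0 => by rw [h0] at hc; simp only [mul_zero, zero_mul] at hc; exact Nat.card_pos.ne' hc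
    have hchk := hchk m (List.mem_filter.2 ⟨List.mem_range.2 (Nat.lt_succ_of_le
      (Nat.le_of_dvd (Nat.pos_of_ne_zero fun (h0 : coSize D = 0) => by rw [hCcard, h0] at h11; simp at h11) hmL)), by
      simp [Nat.mod_eq_zero_of_dvd hmL, Nat.mod_eq_zero_of_dvd hm2]⟩)
    rw [List.all_eq_true] at hchk
    have hj : j = 11 ∨ j = 22 := by
      have hj22 : j ∈ Nat.divisors 22 := Nat.mem_divisors.2 ⟨hje.trans D.e_dvd, by norm_num⟩
      rw [show Nat.divisors 22 = {1, 2, 11, 22} by decide] at hj22
      simp only [Finset.mem_insert, Finset.mem_singleton] at hj22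
      rcases hj22 with h | h | h | h
      · rw [h] at hj11; norm_num at hj11
      · rw [h] at hj11; norm_num at hj11
      · exact Or.inl h
      · exact Or.inr h
    have hchk := hchk j (by rcases hj with h | h <;> simp [h])
    have hpos : 0 < 23 * m * j := by
      rcases hj with h | h <;> rw [h] <;> omega
    rw [beq_iff_eq.2 (Nat.mod_eq_zero_of_dvd hje), hc, Nat.mul_div_cancel _ hpos, Nat.mul_mod_left,
      beq_iff_eq.2 hn', beq_self_eq_true, Bool.and_self, Bool.and_self, Bool.not_true,
      Bool.false_or, Bool.and_eq_true, decide_eq_true_eq] at hchk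
    obtain ⟨h70, hndvd⟩ := hbig hchk.2
    refine hndvd (hCcard ▸ seventy D hG ?_)
    have hpos' : 0 < D.e * coSize D := Nat.pos_of_ne_zero fun h0 => by
      rw [h0] at h70; norm_num at h70
    refine Nat.eq_of_mul_eq_mul_right hpos' ?_
    rw [← h70, ← hprod', mul_assoc]

end Cfsg.Agent.H75.MTwentyFour
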