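import Cfsg.Agent.H75.MTwentyFour.TwentyThree
import Cfsg.Agent.H81.Congr
import Cfsg.Agent.H82.BrauerMap
import Mathlib.LinearAlgebra.Eigenspace.Basic

/-!
Values at elements of prime order used in the Sylow stage at eleven: eigenvalues of a normalising element,
congruences for the class sum of an element commuting with an element of order `p`, and degrees.
-/

set_option linter.unusedSectionVars false
set_option linter.style.haveILetI false

open scoped ComplexConjugate Classical

namespace Cfsg.Agent.H75.MTwentyFour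

open CharBasic Subgroup BlockBasic H86 H86.MTwentyTwo

universe u

variable {G : Type u} [Group G] [Fintype G] {p : ℕ} [hp : Fact p.Prime] {M : Ideal AlgInt}

/-- The conjugates of `z` commuting with `y`. -/
noncomputable def fixedConj (z y : G) : Finset G :=
  Finset.univ.filter fun s => IsConj z s ∧ Commute s y

theorem sum_fixed (hM : IsPModular p M) {y z : G} (hy : orderOf y = p) (χ : IrrCharacter G) :
    MemLocalIdeal M ((∑ a, H83.classInd z a * (χ : G → ℂ) (a * y)) -
      ∑ s ∈ fixedConj z y, (χ : G → ℂ) (s * y)) ∧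
    MemLocalIdeal M ((∑ a, ∑ b, H83.classInd z a * H83.classInd z b * (χ : G → ℂ) (a * b * y)) -
      ∑ s ∈ fixedConj z y, ∑ s' ∈ fixedConj z y, (χ : G → ℂ) (s * s' * y)) := by
  have hQ : IsPGroup p (zpowers y) :=
    IsPGroup.of_card (n := 1) (by rw [Nat.card_zpowers, hy, pow_one])
  have hc : ∀ (a q : G), H83.classInd z (q * a * q⁻¹) = H83.classInd z a :=
    fun a q => H83.classInd_isClassFunction z a q
  have hχ : ∀ g q : G, (χ : G → ℂ) (q * g * q⁻¹) = (χ : G → ℂ) g :=
    fun g q => IsIrr.isClassFunction χ.2 g q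
  have hqy : ∀ q : zpowers y, (q : G) * y * (q : G)⁻¹ = y := fun q => by
    obtain ⟨i, hi⟩ := q.2
    rw [← hi, ((Commute.refl y).zpow_left i).eq, mul_inv_cancel_right]
  letI : MulAction (zpowers y) G :=
    MulAction.compHom G ((ConjAct.toConjAct : G ≃* ConjAct G).toMonoidHom.comp (zpowers y).subtype)
  have hsmul : ∀ (q : zpowers y) (a : G), q • a = (q : G) * a * (q : G)⁻¹ := fun q a =>
    ConjAct.toConjAct_smul (q : G) a
  letI pairs : MulAction (zpowers y) (G × G) :=
    { smul := fun q r => (q • r.1, q • r.2)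
      one_smul := fun r => Prod.ext (one_smul _ r.1) (one_smul _ r.2)
      mul_smul := fun q q' r => Prod.ext (mul_smul q q' r.1) (mul_smul q q' r.2) }
  have hpair : ∀ (q : zpowers y) (r : G × G), q • r = (q • r.1, q • r.2) := fun _ _ => rfl
  have hcy : ∀ (q : zpowers y) (a : G),
      (χ : G → ℂ) ((q : G) * a * (q : G)⁻¹ * y) = (χ : G → ℂ) (a * y) := fun q a => by
    rw [← hχ (a * y) q, show (q : G) * (a * y) * (q : G)⁻¹ =
      (q : G) * a * (q : G)⁻¹ * ((q : G) * y * (q : G)⁻¹) by group, hqy q]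
  have hfix : ∀ a : G, (∀ q : zpowers y, q • a = a) ↔ Commute a y := by
    intro a
    refine ⟨fun h => ?_, fun h q => ?_⟩
    · have := h ⟨y, mem_zpowers y⟩
      rw [hsmul, mul_inv_eq_iff_eq_mul] at this
      exact this.symm
    · obtain ⟨i, hi⟩ := q.2
      rw [hsmul, ← hi, (h.symm.zpow_left i).eq, mul_inv_cancel_right]
  have hring : ∀ g : G, MemLocalRing M ((χ : G → ℂ) g) := fun g =>
    H81.memLocalRing_apply hM (IsIrr.isCharacter χ.2) g
  constructor
  · have h := H82.memLocalIdeal_sum_sub_sum_fixed (X := G) hM hQ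
      (f := fun a => H83.classInd z a * (χ : G → ℂ) (a * y)) (fun a => ?_) (fun q a => ?_)
    · convert h using 2
      rw [fixedConj, Finset.sum_filter, Finset.sum_filter]
      refine Finset.sum_congr rfl fun a _ => ?_
      simp only [hfix, H83.classInd]
      split_ifs <;> simp_all
    · unfold H83.classInd
      split_ifs
      · simpa using hring (a * y)
      · simpa using memLocalRing_of_isIntegral hM (isIntegral_zero : IsIntegral ℤ (0 : ℂ))
    · rw [hsmul, hc]
      rw [hcy]
  · have h := H82.memLocalIdeal_sum_sub_sum_fixed (X := G × G) hM hQ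
      (f := fun r => H83.classInd z r.1 * H83.classInd z r.2 * (χ : G → ℂ) (r.1 * r.2 * y))
      (fun r => ?_) (fun q r => ?_)
    · rw [Fintype.sum_prod_type] at h
      convert h using 2
      rw [fixedConj, Finset.sum_filter, Finset.sum_filter, Fintype.sum_prod_type]
      refine Finset.sum_congr rfl fun a _ => ?_
      simp only [hpair, Prod.mk.injEq, forall_and, hfix, H83.classInd]
      by_cases ha : IsConj z a ∧ Commute a y
      · rw [if_pos ha, Finset.sum_filter]
        refine Finset.sum_congr rfl fun b _ => ?_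
        by_cases hb1 : IsConj z b <;> by_cases hb2 : Commute b y <;> simp [-isConj_iff, ha.1, ha.2, hb1, hb2]
      · rw [if_neg ha]
        refine (Finset.sum_eq_zero fun b _ => ?_).symm
        by_cases ha1 : IsConj z a <;> by_cases ha2 : Commute a y <;> simp_all [-isConj_iff]
    · unfold H83.classInd
      split_ifs
      · simpa using hring (r.1 * r.2 * y)
      all_goals simpa using memLocalRing_of_isIntegral hM (isIntegral_zero : IsIntegral ℤ (0 : ℂ))
    · simp only [hpair, hsmul, hc]
      rw [show (q : G) * r.1 * (q : G)⁻¹ * ((q : G) * r.2 * (q : G)⁻¹) =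
        (q : G) * (r.1 * r.2) * (q : G)⁻¹ by group, hcy]

/-- The sums over the class in terms of the central character value `w`. -/
theorem class_sum {y z : G} (χ : IrrCharacter G) {v w : ℤ} (hv : (χ : G → ℂ) z = v)
    (hw : ((centralizer ({z} : Set G)).index : ℤ) * v = w * charDegree (χ : G → ℂ)) :
    (∑ a, H83.classInd z a * (χ : G → ℂ) (a * y)) = (w : ℂ) * (χ : G → ℂ) y ∧
    (∑ a, ∑ b, H83.classInd z a * H83.classInd z b * (χ : G → ℂ) (a * b * y)) =
      (w : ℂ) * w * (χ : G → ℂ) y := by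
  obtain ⟨n, ρ, hρ, he⟩ := χ.2
  haveI := hρ
  have hω : (∑ g : G, H83.classInd z g * ρ.character g) / ρ.character 1 = (w : ℂ) := by
    rw [he, H83.sum_classInd_mul (IsIrr.isClassFunction χ.2), H83.classSize_eq_index, hv,
      apply_one_eq_charDegree]
    have hd : (charDegree (χ : G → ℂ) : ℂ) ≠ 0 := Nat.cast_ne_zero.2 (charDegree_pos χ).ne'
    rw [div_eq_iff hd]
    exact_mod_cast hw
  have hsc : repSum (H83.classInd z) ρ = (w : ℂ) • LinearMap.id := by
    rw [H83.repSum_scalar (H83.classInd_isClassFunction z) ρ, hω]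
  have h1 : LinearMap.trace ℂ (Fin n → ℂ) (repSum (H83.classInd z) ρ * ρ y) =
      ∑ a, H83.classInd z a * ρ.character (a * y) := by
    simp only [repSum, Finset.sum_mul, smul_mul_assoc, ← map_mul, map_sum, map_smul, smul_eq_mul,
      Representation.character]
  have h2 : LinearMap.trace ℂ (Fin n → ℂ)
      (repSum (H83.classInd z) ρ * repSum (H83.classInd z) ρ * ρ y) =
      ∑ a, ∑ b, H83.classInd z a * H83.classInd z b * ρ.character (a * b * y) := by
    simp only [repSum, Finset.sum_mul, Finset.mul_sum, smul_mul_smul_comm, smul_mul_assoc,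
      mul_smul_comm, ← map_mul, map_sum, map_smul, smul_eq_mul, Representation.character]
    rw [Finset.sum_comm]
    refine Finset.sum_congr rfl fun a _ => Finset.sum_congr rfl fun b _ => ?_
    ring
  constructor
  · rw [← he, ← h1, hsc, smul_mul_assoc, map_smul, smul_eq_mul]
    rfl
  · rw [← he, ← h2, hsc, smul_mul_smul_comm, smul_mul_assoc, map_smul, smul_eq_mul]
    rfl

/-- One conjugate: the central character value is `±1` modulo `p`. -/
theorem omega_one (hM : IsPModular p M) {y z : G} (hy : orderOf y = p) (hS : fixedConj z y = {z})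
    (hz : z * z = 1) (χ : IrrCharacter G) (hd : ¬ p ∣ charDegree (χ : G → ℂ)) {v w : ℤ}
    (hv : (χ : G → ℂ) z = v)
    (hw : ((centralizer ({z} : Set G)).index : ℤ) * v = w * charDegree (χ : G → ℂ)) :
    (p : ℤ) ∣ w * w - 1 := by
  have h := (sum_fixed hM hy χ (z := z)).2
  rw [(class_sum χ hv hw).2, hS, Finset.sum_singleton, Finset.sum_singleton, hz, one_mul] at h
  have hy1 := H35.char_mul_congr hM (IsIrr.isCharacter χ.2) (Commute.one_right y)
    ⟨1, by rw [hy, pow_one]⟩ (by rw [orderOf_one, Nat.dvd_one]; exact hp.out.ne_one)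
  rw [mul_one, apply_one_eq_charDegree] at hy1
  have h2 : MemLocalIdeal M (((w * w - 1) * charDegree (χ : G → ℂ) : ℤ) : ℂ) := by
    have h3 := memLocalIdeal_mul hM
      (show MemLocalRing M (((w * w - 1 : ℤ)) : ℂ) from
        memLocalRing_of_isIntegral hM isIntegral_algebraMap) hy1
    have h4 := memLocalIdeal_sub hM h h3
    convert h4 using 1
    push_cast; ring
  rw [memLocalIdeal_intCast_iff hM] at h2
  exact ((Nat.prime_iff_prime_int.1 hp.out).dvd_or_dvd h2).resolve_right
    fun hh => hd (Int.natCast_dvd_natCast.1 hh)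

/-- Three conjugates forming a four group with the identity: `w` is `-1` or `3` modulo `p`. -/
theorem omega_three (hM : IsPModular p M) {y z : G} (hy : orderOf y = p) {a b c : G}
    (hab : a ≠ b) (hac : a ≠ c) (hbc : b ≠ c) (hS : fixedConj z y = {a, b, c})
    (haa : a * a = 1) (hbb : b * b = 1) (hcc : c * c = 1) (h3 : a * b = c) (χ : IrrCharacter G)
    (hd : ¬ p ∣ charDegree (χ : G → ℂ)) {v w : ℤ} (hv : (χ : G → ℂ) z = v)
    (hw : ((centralizer ({z} : Set G)).index : ℤ) * v = w * charDegree (χ : G → ℂ)) :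
    (p : ℤ) ∣ w * w - 2 * w - 3 := by
  have hac' : a * c = b := by rw [← h3, ← mul_assoc, haa, one_mul]
  have hcb : c * b = a := by rw [← h3, mul_assoc, hbb, mul_one]
  have hbc' : b * c = a := by
    have : (b * c) * (c * b) = 1 := by rw [mul_assoc, ← mul_assoc c, hcc, one_mul, hbb]
    rw [hcb] at this
    calc b * c = b * c * (a * a) := by rw [haa, mul_one]
      _ = a := by rw [← mul_assoc, this, one_mul]
  have hba : b * a = c := by
    rw [← hbc', ← mul_assoc, hbb, one_mul]
  have hca : c * a = b := by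
    rw [← hcb, ← mul_assoc, hcc, one_mul]
  have h := (sum_fixed hM hy χ (z := z)).2
  have h1 := (sum_fixed hM hy χ (z := z)).1
  rw [(class_sum χ hv hw).2, hS] at h
  rw [(class_sum χ hv hw).1, hS] at h1
  simp only [Finset.sum_insert, Finset.mem_insert, Finset.mem_singleton, hab, hac, hbc, or_self,
    not_false_eq_true, Finset.sum_singleton, haa, hbb, hcc, h3, hac', hbc', hcb, hba, hca, one_mul]
    at h h1
  have hy1 := H35.char_mul_congr hM (IsIrr.isCharacter χ.2) (Commute.one_right y)
    ⟨1, by rw [hy, pow_one]⟩ (by rw [orderOf_one, Nat.dvd_one]; exact hp.out.ne_one)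
  rw [mul_one, apply_one_eq_charDegree] at hy1
  have h2 : MemLocalIdeal M (((w * w - 2 * w - 3) * charDegree (χ : G → ℂ) : ℤ) : ℂ) := by
    have h5 := memLocalIdeal_mul hM
      (show MemLocalRing M (((2 : ℤ)) : ℂ) from
        memLocalRing_of_isIntegral hM isIntegral_algebraMap) h1
    have h6 := memLocalIdeal_mul hM
      (show MemLocalRing M (((w * w - 2 * w - 3 : ℤ)) : ℂ) from
        memLocalRing_of_isIntegral hM isIntegral_algebraMap) hy1
    have h4 := memLocalIdeal_sub hM (memLocalIdeal_sub hM h h5) h6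
    convert h4 using 1
    push_cast; ring
  rw [memLocalIdeal_intCast_iff hM] at h2
  exact ((Nat.prime_iff_prime_int.1 hp.out).dvd_or_dvd h2).resolve_right
    fun hh => hd (Int.natCast_dvd_natCast.1 hh)

/-- In a nontrivial character every `r`-th root of one is an eigenvalue of an element of order `r`
acting fixed-point-freely on a subgroup of prime order. -/
theorem exists_eigen [IsSimpleGroup G] (χ : IrrCharacter G) (hd : 1 < charDegree (χ : G → ℂ))
    {x y : G} {q r k : ℕ} (hq : q.Prime) (hxo : orderOf x = q) (hyo : orderOf y = r)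
    (hconj : y * x * y⁻¹ = x ^ k) (hfree : ∀ i j : ℕ, i < r → j < r → i ≠ j →
      ¬ k ^ i ≡ k ^ j [MOD q])
    {μ : ℂ} (hμ : μ ^ r = 1) :
    ∃ (n : ℕ) (ν : Fin n → ℂ), (∀ i, ν i ^ r = 1) ∧ (∀ j : ℕ, (χ : G → ℂ) (y ^ j) = ∑ i, ν i ^ j) ∧
      n = charDegree (χ : G → ℂ) ∧ ∃ i, ν i = μ := by
  obtain ⟨m, ρ, hρ, he⟩ := χ.2
  haveI := hρ
  have hm : charDegree (χ : G → ℂ) = m := by
    have h := apply_one_eq_charDegree χ
    rw [← he, Representation.char_one] at h
    simp only [Module.finrank_fintype_fun_eq_card, Fintype.card_fin] at h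
    rw [← he]
    exact_mod_cast h.symm
  have hker := SmallExc.ker_eq_bot ρ hρ (hm ▸ hd)
  obtain ⟨bx, νx, hbx, hνx, -⟩ := exists_eigenbasis_rep ρ x
  obtain ⟨i₀, hi₀⟩ : ∃ i, νx i ≠ 1 := by
    by_contra! hall
    have : ρ x = 1 := bx.ext fun i => by rw [hbx i, hall i, one_smul]; rfl
    have hx1 : x ∈ ρ.ker := MonoidHom.mem_ker.2 this
    rw [hker, mem_bot] at hx1
    rw [hx1, orderOf_one] at hxo
    exact hq.ne_one hxo.symm
  set v := bx i₀ with hv
  set ν₀ := νx i₀ with hν₀
  have hν₀q : ν₀ ^ q = 1 := hxo ▸ hνx i₀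
  have hord : orderOf ν₀ = q := by
    haveI := Fact.mk hq
    exact orderOf_eq_prime hν₀q hi₀
  have hxk : ∀ i : ℕ, y ^ i * x = x ^ (k ^ i) * y ^ i := by
    intro i
    induction i with
    | zero => simp
    | succ i ih =>
      have hc : y * x = x ^ k * y := by rw [← hconj, inv_mul_cancel_right]
      have hc' : ∀ a : ℕ, y * x ^ a = x ^ (k * a) * y := by
        intro a
        induction a with
        | zero => simp
        | succ a iha =>
          rw [pow_succ, ← mul_assoc, iha, mul_assoc, hc, ← mul_assoc, ← pow_add, mul_add, mul_one]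
      rw [pow_succ' y, mul_assoc, ih, ← mul_assoc, hc', pow_succ', mul_assoc]
  -- the translates `ρ (y ^ i) v` are eigenvectors of `x` for distinct eigenvalues
  set e : Fin r → ℂ := fun i => ν₀ ^ (k ^ (r - (i : ℕ))) with he'
  have hyr : y ^ r = 1 := hyo ▸ pow_orderOf_eq_one y
  have hsur : ∀ i : Fin r, x * y ^ (i : ℕ) = y ^ (i : ℕ) * x ^ (k ^ (r - (i : ℕ))) := by
    intro i
    have h := hxk (r - (i : ℕ))
    have hi : (i : ℕ) + (r - (i : ℕ)) = r := by have := i.2; omega
    have h1 : y ^ (i : ℕ) * y ^ (r - (i : ℕ)) = 1 := by rw [← pow_add, hi, hyr]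
    have h2 : y ^ (r - (i : ℕ)) * y ^ (i : ℕ) = 1 := by rw [← pow_add, add_comm, hi, hyr]
    calc x * y ^ (i : ℕ) = y ^ (i : ℕ) * (y ^ (r - (i : ℕ)) * x) * y ^ (i : ℕ) := by
          rw [← mul_assoc, h1, one_mul]
      _ = y ^ (i : ℕ) * x ^ (k ^ (r - (i : ℕ))) := by
          rw [h, mul_assoc, mul_assoc (x ^ _), h2, mul_one]
  have hpowv : ∀ a : ℕ, ρ (x ^ a) v = ν₀ ^ a • v := by
    intro a
    induction a with
    | zero => simp
    | succ a ih =>
      rw [pow_succ', map_mul, Module.End.mul_apply, ih, map_smul, hbx i₀, smul_smul, ← pow_succ]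
  have heig : ∀ i : Fin r, Module.End.HasEigenvector (ρ x) (e i) (ρ (y ^ (i : ℕ)) v) := by
    intro i
    refine ⟨Module.End.mem_eigenspace_iff.2 ?_, fun h0 => ?_⟩
    · rw [← Module.End.mul_apply, ← map_mul, hsur i, map_mul, Module.End.mul_apply, hpowv, map_smul]
    · refine bx.ne_zero i₀ ?_
      have := congrArg (ρ (y ^ (r - (i : ℕ)))) h0
      rwa [← Module.End.mul_apply, ← map_mul, ← pow_add, show r - (i : ℕ) + (i : ℕ) = r by
        have := i.2; omega, hyr, map_one, Module.End.one_apply, map_zero] at this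
  have hinj : Function.Injective e := by
    intro i j hij
    by_contra hne
    have hu : IsUnit ν₀ := IsUnit.of_pow_eq_one hν₀q hq.ne_zero
    have h : k ^ (r - (i : ℕ)) ≡ k ^ (r - (j : ℕ)) [MOD q] := by
      have h' : hu.unit ^ (k ^ (r - (i : ℕ))) = hu.unit ^ (k ^ (r - (j : ℕ))) :=
        Units.ext (by simpa [he'] using hij)
      have h'' := pow_eq_pow_iff_modEq.1 h'
      rwa [← orderOf_units, IsUnit.unit_spec, hord] at h''
    have hr : 1 ≤ r := by have := i.2; omega
    have hkr : k ^ r ≡ 1 [MOD q] := by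
      have h1 := hxk r
      rw [hyr, one_mul, mul_one] at h1
      have h2 : x ^ (k ^ r) = x ^ 1 := by rw [pow_one, ← h1]
      rw [← hxo]
      exact pow_eq_pow_iff_modEq.1 h2
    refine hfree i j i.2 j.2 (fun h' => hne (Fin.ext h')) ?_
    have h3 := (h.mul_right (k ^ ((i : ℕ) + (j : ℕ))))
    rw [← pow_add, ← pow_add, show r - (i : ℕ) + ((i : ℕ) + (j : ℕ)) = r + (j : ℕ) by
      have := i.2; omega, show r - (j : ℕ) + ((i : ℕ) + (j : ℕ)) = r + (i : ℕ) by
      have := j.2; omega, pow_add, pow_add] at h3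
    have h4 := ((hkr.mul_right (k ^ (j : ℕ))).symm.trans (h3.trans (hkr.mul_right (k ^ (i : ℕ)))))
    rw [one_mul, one_mul] at h4
    exact h4.symm
  have hli := Module.End.eigenvectors_linearIndependent' (ρ x) e hinj _ heig
  -- the eigenvector of `y`
  have hμ0 : μ ≠ 0 := by
    rintro rfl
    rw [zero_pow (by rw [← hyo]; exact (orderOf_pos y).ne')] at hμ
    exact zero_ne_one hμ
  set w := ∑ i : Fin r, (μ⁻¹) ^ (i : ℕ) • ρ (y ^ (i : ℕ)) v with hw
  have hw0 : w ≠ 0 := fun h0 => by
    have hr : 0 < r := hyo ▸ orderOf_pos y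
    have := Fintype.linearIndependent_iff.1 hli (fun i => (μ⁻¹) ^ (i : ℕ)) h0 ⟨0, hr⟩
    simp at this
  have hper : ∀ a : ℕ, (μ⁻¹) ^ a • ρ (y ^ a) v = (μ⁻¹) ^ (a % r) • ρ (y ^ (a % r)) v := by
    intro a
    conv_lhs => rw [← Nat.div_add_mod a r]
    rw [pow_add, pow_add, pow_mul, pow_mul, inv_pow μ r, hμ, inv_one, one_pow, one_mul, hyr, one_pow,
      one_mul]
  have hyw : ρ y w = μ • w := by
    rw [hw, map_sum, Finset.smul_sum]
    have hstep : ∀ i : Fin r, ρ y ((μ⁻¹) ^ (i : ℕ) • ρ (y ^ (i : ℕ)) v) =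
        μ • ((μ⁻¹) ^ ((i : ℕ) + 1) • ρ (y ^ ((i : ℕ) + 1)) v) := by
      intro i
      rw [map_smul, ← Module.End.mul_apply, ← map_mul, ← pow_succ', smul_smul]
      congr 1
      rw [pow_succ, mul_comm μ, mul_assoc, inv_mul_cancel₀ hμ0, mul_one]
    rw [Finset.sum_congr rfl fun i _ => hstep i, ← Finset.smul_sum, ← Finset.smul_sum]
    congr 1
    have hr : 0 < r := hyo ▸ orderOf_pos y
    haveI : NeZero r := ⟨hr.ne'⟩
    refine Fintype.sum_equiv (Equiv.addRight (1 : Fin r)) _ _ fun i => ?_
    rw [hper, Equiv.coe_addRight, Fin.val_add, Fin.val_one', Nat.add_mod_mod]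
  obtain ⟨b, ν, hb, hν, -⟩ := exists_eigenbasis_rep ρ y
  have hpow : ∀ (a : ℕ) i, ρ (y ^ a) (b i) = ν i ^ a • b i := by
    intro a i
    induction a with
    | zero => simp
    | succ a ih =>
      rw [pow_succ', map_mul, Module.End.mul_apply, ih, map_smul, hb, smul_smul, ← pow_succ]
  refine ⟨Module.finrank ℂ (Fin m → ℂ), ν, fun i => hyo ▸ hν i, fun j => ?_, ?_, ?_⟩
  · rw [← congrFun he]
    exact trace_eq_sum_of_eigenbasis b _ _ (hpow j)
  · rw [hm]; simp
  · by_contra! hne
    apply hw0
    refine b.ext_elem fun i => ?_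
    have h := congrArg (fun u => b.repr u i) hyw
    simp only [map_smul, Finsupp.smul_apply, smul_eq_mul] at h
    have hl : b.repr (ρ y w) i = ν i * b.repr w i := by
      conv_lhs => rw [← b.sum_repr w]
      simp only [map_sum, map_smul, hb, smul_smul, Finsupp.coe_finset_sum, Finset.sum_apply,
        Module.Basis.repr_self, Finsupp.smul_single, smul_eq_mul, mul_one]
      rw [Finset.sum_eq_single i]
      · simp [mul_comm]
      · intro j _ hji; simp [hji]
      · simp
    rw [hl] at h
    simp only [map_zero, Finsupp.coe_zero, Pi.zero_apply]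
    by_contra hne0
    exact hne i (mul_right_cancel₀ hne0 h)

variable (D : SmallExc.PBlk G p)

/-- Degrees of the non-exceptional characters divide the index of the centraliser. -/
theorem deg_dvd_X' {χ : IrrCharacter G} (hχ : χ ∈ D.X) :
    charDegree (χ : G → ℂ) ∣ (Cent D).index := by
  rw [index_cent D]
  exact D.deg_dvd_X hχ

/-- The degree of the exceptional characters divides the index of the centraliser. -/
theorem deg_dvd_Y' {θ : IrrCharacter G} (hθ : θ ∈ D.Y) :
    charDegree (θ : G → ℂ) ∣ (Cent D).index := by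
  obtain ⟨x, hx, hx1⟩ := D.exists_ne_one
  have hint : IsIntegral ℤ (∑ θ' ∈ D.Y, centralChar (θ' : G → ℂ) x) :=
    IsIntegral.sum _ fun θ' _ => isIntegral_centralChar θ'.2 x
  have h2 : ∑ θ' ∈ D.Y, centralChar (θ' : G → ℂ) x =
      ((Cent D).index : ℂ) * ((-D.ε : ℤ) : ℂ) / (charDegree (θ : G → ℂ) : ℂ) := by
    rw [Finset.sum_congr rfl (g := fun θ' : IrrCharacter G =>
      ((Cent D).index : ℂ) / (charDegree (θ : G → ℂ) : ℂ) * (θ' : G → ℂ) x) (fun θ' hθ' => by
        rw [centralChar, centralizer_mem D hx hx1, apply_one_eq_charDegree, D.degree_Y hθ' hθ]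
        ring), ← Finset.mul_sum, sum_Y_singular D hx hx1]
    push_cast; ring
  rw [h2] at hint
  exact FewSylowReduce.dvd_of_isIntegral (charDegree_pos θ)
    (by rcases D.hε with e | e <;> simp [e]) hint

/-- Degrees modulo 23. -/
theorem degree_mod_twentyThree (hG : IsM24 G) (χ : IrrCharacter G) :
    charDegree (χ : G → ℂ) % 23 ∈ ([0, 1, 11, 12, 22] : List ℕ) := by
  haveI : Fact (Nat.Prime 23) := ⟨by norm_num⟩
  haveI := finite_of_isM24 hG
  obtain ⟨P⟩ := (inferInstance : Nonempty (Sylow 23 G))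
  obtain ⟨hC, he⟩ := twentyThree hG P
  obtain ⟨E, rfl⟩ := SmallExc.exists_pblk P (card_sylow_of hG (by decide) (by decide) P)
  simp only [List.mem_cons, List.not_mem_nil, or_false]
  by_cases hX : χ ∈ E.X
  · have h := X_degree_mod E hX
    rcases E.sign χ hX with e | e <;> rw [e] at h <;> omega
  by_cases hY : χ ∈ E.Y
  · have h := Y_degree_mod E hY
    rw [show E.e = 11 from he] at h
    rcases E.hε with e | e <;> rw [e] at h <;> omega
  · have := dvd_degree_outside E hC hX hY
    omega

end Cfsg.Agent.H75.MTwentyFour
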